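import Groth.Agent.MLMod.Flat
import Mathlib.RingTheory.Idempotents
import Mathlib.Algebra.Module.Projective
import Mathlib.Algebra.Module.Torsion.Basic
import Mathlib.LinearAlgebra.TensorProduct.Quotient

/-!
# Flat modules with projective reduction modulo a nilpotent ideal are projective
-/

namespace Groth.MLMod

universe u

variable {A : Type u} [CommRing A] (J : Ideal A)

lemma map_smul_top_le {G N : Type u} [AddCommGroup G] [Module A G] [AddCommGroup N] [Module A N]
    (f : G →ₗ[A] N) : (J • ⊤ : Submodule A G) ≤ (J • ⊤ : Submodule A N).comap f := by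
  rw [← Submodule.map_le_iff_le_comap, Submodule.map_smul'']
  exact Submodule.smul_mono le_rfl le_top

/-- Reduction of endomorphisms. -/
def endReduce (G : Type u) [AddCommGroup G] [Module A G] :
    Module.End A G →+* Module.End A (G ⧸ (J • ⊤ : Submodule A G)) where
  toFun f := Submodule.mapQ _ _ f (map_smul_top_le J f)
  map_one' := by ext x; rfl
  map_mul' f g := by ext x; rfl
  map_zero' := by ext x; rfl
  map_add' f g := by ext x; rfl

lemma eq_bot_of_le_smul_nilpotent {N : Type u} [AddCommGroup N] [Module A N] (hJ : IsNilpotent J)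
    {K : Submodule A N} (h : K ≤ J • K) : K = ⊥ := by
  obtain ⟨k, hk⟩ := hJ
  have : ∀ i, K ≤ J ^ i • K := by
    intro i
    induction i with
    | zero => simp
    | succ i ih =>
      calc K ≤ J • K := h
        _ ≤ J • (J ^ i • K) := Submodule.smul_mono le_rfl ih
        _ = J ^ (i + 1) • K := by rw [← Submodule.smul_assoc, pow_succ', smul_eq_mul]
  have := this k
  rw [hk] at this
  simpa using this

variable {N : Type u} [AddCommGroup N] [Module A N]

/-- The core argument: `q : G → N` with a section modulo `J`. -/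
theorem projective_of_flat_of_section [Module.Flat A N] (hJ : IsNilpotent J) {G : Type u}
    [AddCommGroup G] [Module A G] [Module.Projective A G] (q : G →ₗ[A] N)
    (hq : Function.Surjective q)
    (σ : (N ⧸ (J • ⊤ : Submodule A N)) →ₗ[A] G ⧸ (J • ⊤ : Submodule A G))
    (hσ' : ∀ z, Submodule.mapQ _ _ q (map_smul_top_le J q) (σ z) = z) :
    Module.Projective A N := by
  let qb : (G ⧸ (J • ⊤ : Submodule A G)) →ₗ[A] N ⧸ (J • ⊤ : Submodule A N) :=
    Submodule.mapQ _ _ q (map_smul_top_le J q)
  replace hσ' : ∀ z, qb (σ z) = z := hσ'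
  let eb : Module.End A (G ⧸ (J • ⊤ : Submodule A G)) := σ ∘ₗ qb
  have hidem : IsIdempotentElem eb := by
    refine LinearMap.ext fun z => ?_
    show σ (qb (σ (qb z))) = σ (qb z)
    rw [hσ']
  have hrange : eb ∈ (endReduce J G).range := by
    obtain ⟨e, he⟩ := Module.projective_lifting_property (Submodule.mkQ (J • ⊤ : Submodule A G))
      (eb ∘ₗ Submodule.mkQ _) (Submodule.mkQ_surjective _)
    exact ⟨e, LinearMap.ext fun z => by
      obtain ⟨w, rfl⟩ := Submodule.Quotient.mk_surjective _ z
      exact LinearMap.congr_fun he w⟩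
  have hnil : ∀ f ∈ RingHom.ker (endReduce J G), IsNilpotent f := by
    intro f hf
    have hfJ : ∀ i, LinearMap.range (f ^ i) ≤ J ^ i • ⊤ := by
      intro i
      induction i with
      | zero => simp
      | succ i ih =>
        rintro _ ⟨x, rfl⟩
        have h1 : f x ∈ (J • ⊤ : Submodule A G) := by
          have := LinearMap.congr_fun (RingHom.mem_ker.1 hf) (Submodule.Quotient.mk x)
          exact (Submodule.Quotient.mk_eq_zero _).1 this
        have h2 : (f ^ i) (f x) ∈ (J • ⊤ : Submodule A G).map (f ^ i) := ⟨f x, h1, rfl⟩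
        rw [Submodule.map_smul'', Submodule.map_top] at h2
        rw [show (f ^ (i + 1)) x = (f ^ i) (f x) by rw [pow_succ]; rfl, pow_succ', ← smul_eq_mul,
          Submodule.smul_assoc]
        exact Submodule.smul_mono le_rfl ih h2
    obtain ⟨k, hk⟩ := hJ
    refine ⟨k, LinearMap.ext fun x => ?_⟩
    have := hfJ k ⟨x, rfl⟩
    rw [hk] at this
    simpa using this
  obtain ⟨e, he, heeb⟩ := exists_isIdempotentElem_eq_of_ker_isNilpotent (endReduce J G) hnil eb
    hrange hidem
  have hee : ∀ x, e (e x) = e x := fun x => LinearMap.congr_fun he x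
  have heb : ∀ x, Submodule.Quotient.mk (e x) = σ (qb (Submodule.Quotient.mk x)) := fun x =>
    LinearMap.congr_fun heeb (Submodule.Quotient.mk x)
  let P := LinearMap.range e
  haveI : Module.Projective A P :=
    Module.Projective.of_split P.subtype e.rangeRestrict (LinearMap.ext fun ⟨_, x, rfl⟩ =>
      Subtype.ext (hee x))
  let φ : P →ₗ[A] N := q ∘ₗ P.subtype
  have hφ : Function.Surjective φ := by
    rw [← LinearMap.range_eq_top]
    have hsup : LinearMap.range φ ⊔ J • ⊤ = ⊤ := by
      rw [eq_top_iff]
      intro w _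
      obtain ⟨v, rfl⟩ := hq w
      refine Submodule.mem_sup.2 ⟨q (e v), ⟨⟨e v, v, rfl⟩, rfl⟩, q v - q (e v), ?_, by abel⟩
      rw [← Submodule.Quotient.mk_eq_zero, Submodule.Quotient.mk_sub]
      show qb (Submodule.Quotient.mk v) - qb (Submodule.Quotient.mk (e v)) = 0
      rw [heb, hσ', sub_self]
    have hbot : (⊤ : Submodule A (N ⧸ LinearMap.range φ)) = ⊥ := by
      refine eq_bot_of_le_smul_nilpotent J hJ ?_
      have := congrArg (Submodule.map (LinearMap.range φ).mkQ) hsup
      rw [Submodule.map_sup, Submodule.map_smul'', Submodule.map_top, Submodule.range_mkQ,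
        Submodule.mkQ_map_self, bot_sup_eq] at this
      exact this.ge
    rw [eq_top_iff]
    intro w _
    have : Submodule.Quotient.mk (p := LinearMap.range φ) w ∈ (⊥ : Submodule A _) :=
      hbot ▸ Submodule.mem_top
    exact (Submodule.Quotient.mk_eq_zero _).1 this
  have hKJ : LinearMap.ker φ ≤ J • LinearMap.ker φ := by
    intro z hz
    -- `z` dies in `P / JP`, and universal exactness pulls it back into `J • ker φ`
    have hzG : (z : G) ∈ (J • ⊤ : Submodule A G) := by
      obtain ⟨v, hv⟩ := z.2
      rw [← Submodule.Quotient.mk_eq_zero, ← hv, heb]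
      have h0 : qb (Submodule.Quotient.mk (z : G)) = 0 := by
        show Submodule.Quotient.mk (q (z : G)) = 0
        rw [show q (z : G) = φ z from rfl, LinearMap.mem_ker.1 hz, Submodule.Quotient.mk_zero]
      rw [← hv, heb, hσ'] at h0
      rw [h0, map_zero]
    have hzP : z ∈ (J • ⊤ : Submodule A P) := by
      have := map_smul_top_le J e.rangeRestrict hzG
      rw [Submodule.mem_comap] at this
      convert this using 1
      obtain ⟨v, hv⟩ := z.2
      apply Subtype.ext
      show (z : G) = e (z : G)
      rw [← hv, hee]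
    have hui : CAlgX.UniversallyInjective A (LinearMap.ker φ).subtype :=
      ui_of_flat_coker Subtype.val_injective (LinearMap.exact_subtype_ker_map φ) hφ
    -- tensor with `A ⧸ J`
    let k0 : LinearMap.ker φ := ⟨z, hz⟩
    have h0 : TensorProduct.tmul A (z : P) (1 : A ⧸ J) = 0 := by
      refine Submodule.smul_induction_on hzP (fun r hr x _ => ?_) (fun x y hx hy => ?_)
      · rw [TensorProduct.smul_tmul]
        have : r • (1 : A ⧸ J) = 0 := by
          rw [Algebra.smul_def, mul_one, Ideal.Quotient.algebraMap_eq]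
          exact Ideal.Quotient.eq_zero_iff_mem.2 hr
        rw [this, TensorProduct.tmul_zero]
      · rw [TensorProduct.add_tmul, hx, hy, add_zero]
    have h1 : TensorProduct.tmul A k0 (1 : A ⧸ J) = 0 := by
      apply hui (A ⧸ J)
      rw [map_zero, LinearMap.rTensor_tmul]
      exact h0
    have h2 := congrArg (TensorProduct.tensorQuotEquivQuotSMul (LinearMap.ker φ) J) h1
    rw [map_zero, ← map_one (Ideal.Quotient.mk J)] at h2
    rw [TensorProduct.tensorQuotEquivQuotSMul_tmul_mk, one_smul, Submodule.Quotient.mk_eq_zero] at h2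
    have h3 := Submodule.mem_map_of_mem (f := (LinearMap.ker φ).subtype) h2
    rw [Submodule.map_smul'', Submodule.map_top, Submodule.range_subtype] at h3
    exact h3
  have hker : LinearMap.ker φ = ⊥ := eq_bot_of_le_smul_nilpotent J hJ hKJ
  exact Module.Projective.of_equiv
    (LinearEquiv.ofBijective φ ⟨LinearMap.ker_eq_bot.1 hker, hφ⟩)

/-- Flat with projective reduction modulo a nilpotent ideal implies projective. -/
theorem projective_of_flat_of_projective_quotient [Module.Flat A N] (hJ : IsNilpotent J)
    [Module.Projective (A ⧸ J) (N ⧸ (J • ⊤ : Submodule A N))] : Module.Projective A N := by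
  obtain ⟨G, _, _, _, q, hq⟩ : ∃ (G : Type u) (_ : AddCommGroup G) (_ : Module A G)
      (_ : Module.Projective A G) (q : G →ₗ[A] N), Function.Surjective q :=
    ⟨N →₀ A, inferInstance, inferInstance, inferInstance, Finsupp.linearCombination A id,
      Finsupp.linearCombination_id_surjective A N⟩
  let qb : (G ⧸ (J • ⊤ : Submodule A G)) →ₗ[A] N ⧸ (J • ⊤ : Submodule A N) :=
    Submodule.mapQ _ _ q (map_smul_top_le J q)
  have hqb : Function.Surjective qb := by
    intro z
    obtain ⟨w, rfl⟩ := Submodule.Quotient.mk_surjective _ z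
    obtain ⟨v, rfl⟩ := hq w
    exact ⟨Submodule.Quotient.mk v, rfl⟩
  obtain ⟨σ, hσ⟩ := Module.projective_lifting_property
    (LinearMap.extendScalarsOfSurjective Ideal.Quotient.mk_surjective qb (R := A) (S := A ⧸ J))
    LinearMap.id hqb
  exact projective_of_flat_of_section J hJ q hq (σ.restrictScalars A)
    fun z => LinearMap.congr_fun hσ z

end Groth.MLMod
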