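import Groth.Agent.MLMod.ML
import Groth.Agent.MLMod.LiftProjective
import Mathlib.RingTheory.Flat.Basic
import Mathlib.LinearAlgebra.TensorProduct.Quotient
import Mathlib.Algebra.Module.Torsion.Basic

/-!
# Flatness along nilpotent ideals
-/

namespace Groth.MLMod

universe u

open TensorProduct

variable {R : Type u} [CommRing R] {M : Type u} [AddCommGroup M] [Module R M]

/-- `Tor₁(Q, M) = 0`, phrased with short exact sequences ending in `Q`. -/
def TorZero (M : Type u) [AddCommGroup M] [Module R M] (Q : Type u) [AddCommGroup Q] [Module R Q] :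
    Prop :=
  ∀ (A B : Type u) [AddCommGroup A] [Module R A] [AddCommGroup B] [Module R B] (f : A →ₗ[R] B)
    (g : B →ₗ[R] Q), Function.Injective f → Function.Exact f g → Function.Surjective g →
    Function.Injective (f.rTensor M)

variable {Q : Type u} [AddCommGroup Q] [Module R Q]

/-- It suffices to test one presentation by a projective module. -/
lemma torZero_of_presentation {K F : Type u} [AddCommGroup K] [Module R K] [AddCommGroup F]
    [Module R F] [Module.Projective R F] {j : K →ₗ[R] F} {p : F →ₗ[R] Q}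
    (hex : Function.Exact j p) (hp : Function.Surjective p)
    (hinj : Function.Injective (j.rTensor M)) : TorZero (R := R) M Q := by
  intro A B _ _ _ _ f g hf hfg hg
  rw [injective_iff_map_eq_zero]
  intro x hx
  obtain ⟨φ, hφ⟩ := Module.projective_lifting_property g p hg
  have hk : ∀ k, φ (j k) ∈ LinearMap.range f := fun k =>
    (hfg _).1 ((LinearMap.congr_fun hφ _).trans (hex.apply_apply_eq_zero k))
  choose a ha using hk
  let φ' : K →ₗ[R] A :=
    { toFun := a
      map_add' := fun u v => hf (by simp [ha])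
      map_smul' := fun r u => hf (by simp [ha]) }
  let ι : K →ₗ[R] A × F := (-φ').prod j
  let P : A × F →ₗ[R] B := f.coprod φ
  have hP : Function.Exact ι P := by
    intro z
    constructor
    · intro hz
      have h0 : f z.1 + φ z.2 = 0 := hz
      have hpz : p z.2 = 0 := by
        rw [← LinearMap.congr_fun hφ z.2]
        have := congrArg g h0
        rwa [map_add, hfg.apply_apply_eq_zero, zero_add, map_zero] at this
      obtain ⟨k, hk⟩ := (hex _).1 hpz
      refine ⟨k, Prod.ext (hf ?_) hk⟩
      show f (-(a k)) = f z.1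
      rw [map_neg, ha, hk]
      exact neg_eq_of_add_eq_zero_left h0
    · rintro ⟨k, rfl⟩
      show f (-(a k)) + φ (j k) = 0
      rw [map_neg, ha, neg_add_cancel]
  have hsurj : Function.Surjective P := by
    intro b
    obtain ⟨v, hv⟩ := hp (g b)
    obtain ⟨c, hc⟩ := (hfg (b - φ v)).1 (by
      rw [map_sub, ← LinearMap.comp_apply g φ, hφ, hv, sub_self])
    exact ⟨(c, v), by show f c + φ v = b; rw [hc, sub_add_cancel]⟩
  have h1 : P.rTensor M ((LinearMap.inl R A F).rTensor M x) = 0 := by
    rw [← LinearMap.rTensor_comp_apply, LinearMap.coprod_inl, hx]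
  obtain ⟨y, hy⟩ := (rTensor_exact M hP hsurj _).1 h1
  have hy0 : y = 0 := by
    apply hinj
    rw [map_zero]
    have := congrArg ((LinearMap.snd R A F).rTensor M) hy
    rwa [← LinearMap.rTensor_comp_apply, ← LinearMap.rTensor_comp_apply, LinearMap.snd_comp_inl,
      LinearMap.rTensor_zero, LinearMap.zero_apply, LinearMap.snd_prod] at this
  have := congrArg ((LinearMap.fst R A F).rTensor M) hy
  rw [hy0, map_zero, map_zero, ← LinearMap.rTensor_comp_apply, LinearMap.fst_comp_inl,
    LinearMap.rTensor_id, LinearMap.id_apply] at this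
  exact this.symm

/-- Extensions. -/
lemma torZero_extension {Q' Q'' : Type u} [AddCommGroup Q'] [Module R Q'] [AddCommGroup Q'']
    [Module R Q''] {i : Q' →ₗ[R] Q} {q : Q →ₗ[R] Q''} (hi : Function.Injective i)
    (hiq : Function.Exact i q) (hq : Function.Surjective q) (h' : TorZero (R := R) M Q')
    (h'' : TorZero (R := R) M Q'') : TorZero (R := R) M Q := by
  intro A B _ _ _ _ f g hf hfg hg
  let B' : Submodule R B := LinearMap.ker (q ∘ₗ g)
  let f' : A →ₗ[R] B' := f.codRestrict B' fun a => by
    simp [B', hfg.apply_apply_eq_zero]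
  have hmem : ∀ b : B', g b.1 ∈ LinearMap.range i := fun b => (hiq _).1 b.2
  choose c hc using hmem
  let g' : B' →ₗ[R] Q' :=
    { toFun := c
      map_add' := fun u v => hi (by simp [hc])
      map_smul' := fun r u => hi (by simp [hc]) }
  have h1 : Function.Injective (f'.rTensor M) := by
    refine h' A B' f' g' (fun u v huv => hf (congrArg Subtype.val huv)) ?_ ?_
    · intro b
      refine ⟨fun hb => ?_, ?_⟩
      · obtain ⟨a, ha⟩ := (hfg b.1).1 (by rw [← hc b, show c b = g' b from rfl, hb, map_zero])
        exact ⟨a, Subtype.ext ha⟩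
      · rintro ⟨a, rfl⟩
        apply hi
        show i (c (f' a)) = i 0
        rw [hc, map_zero]
        exact hfg.apply_apply_eq_zero a
    · intro z
      obtain ⟨b, hb⟩ := hg (i z)
      exact ⟨⟨b, by simp [B', hb, hiq.apply_apply_eq_zero]⟩, hi (by
        show i (c _) = i z
        rw [hc]
        exact hb)⟩
  have h2 : Function.Injective (B'.subtype.rTensor M) :=
    h'' B' B B'.subtype (q ∘ₗ g) B'.injective_subtype (LinearMap.exact_subtype_ker_map _)
      (hq.comp hg)
  have : f = B'.subtype ∘ₗ f' := rfl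
  rw [this, LinearMap.rTensor_comp]
  exact h2.comp h1

variable (M) in
/-- Transport along an equivalence. -/
lemma torZero_of_equiv {Q' : Type u} [AddCommGroup Q'] [Module R Q'] (e : Q ≃ₗ[R] Q')
    (h : TorZero (R := R) M Q) : TorZero (R := R) M Q' := by
  intro A B _ _ _ _ f g hf hfg hg
  exact h A B f (e.symm.toLinearMap ∘ₗ g) hf
    (e.symm.injective.comp_exact_iff_exact.mpr hfg) (e.symm.surjective.comp hg)

/-- Free `R ⧸ I`-modules. -/
lemma torZero_finsupp (I : Ideal R) (htor : Function.Injective (I.subtype.rTensor M)) (α : Type u) :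
    TorZero (R := R) M (α →₀ R ⧸ I) := by
  classical
  let p : (α →₀ R) →ₗ[R] α →₀ R ⧸ I := Finsupp.mapRange.linearMap (Submodule.mkQ I)
  let j : (α →₀ I) →ₗ[R] α →₀ R := Finsupp.mapRange.linearMap I.subtype
  have hp : Function.Surjective p :=
    Finsupp.mapRange_surjective _ (map_zero (Submodule.mkQ I)) (Submodule.mkQ_surjective I)
  have hex : Function.Exact j p := by
    intro z
    constructor
    · intro hz
      have hmem : ∀ s, z s ∈ I := fun s =>
        (Submodule.Quotient.mk_eq_zero I).1 (DFunLike.congr_fun hz s)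
      refine ⟨Finsupp.onFinset z.support (fun s => ⟨z s, hmem s⟩) (fun s hs => ?_), ?_⟩
      · exact Finsupp.mem_support_iff.2 fun h0 => hs (Subtype.ext h0)
      · ext s
        rfl
    · rintro ⟨y, rfl⟩
      ext s
      exact (Submodule.Quotient.mk_eq_zero I).2 (y s).2
  refine torZero_of_presentation hex hp ((injective_iff_map_eq_zero _).2 fun x hx => ?_)
  apply (TensorProduct.finsuppLeft R R I M α).injective
  rw [map_zero]
  refine Finsupp.ext fun s => htor ?_
  rw [Finsupp.zero_apply, map_zero, TensorProduct.finsuppLeft_apply, ← LinearMap.rTensor_comp_apply]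
  have h2 : I.subtype ∘ₗ (Finsupp.lapply s : (α →₀ I) →ₗ[R] I) =
      (Finsupp.lapply s : (α →₀ R) →ₗ[R] R) ∘ₗ j := by
    ext z : 1
    rfl
  rw [h2, LinearMap.rTensor_comp_apply, hx, map_zero]

section Quotient

variable (I : Ideal R)

/-- `(R ⧸ I)`-linear injections stay injective after tensoring. -/
lemma rTensor_injective_of_flat_quotient [Module.Flat (R ⧸ I) ((R ⧸ I) ⊗[R] M)] {X Y : Type u}
    [AddCommGroup X] [Module R X] [Module (R ⧸ I) X] [IsScalarTower R (R ⧸ I) X]
    [AddCommGroup Y] [Module R Y] [Module (R ⧸ I) Y] [IsScalarTower R (R ⧸ I) Y]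
    (φ : X →ₗ[R ⧸ I] Y) (hφ : Function.Injective φ) :
    Function.Injective ((φ.restrictScalars R).rTensor M) := by
  let eX := AlgebraTensorModule.cancelBaseChange R (R ⧸ I) (R ⧸ I) X M
  let eY := AlgebraTensorModule.cancelBaseChange R (R ⧸ I) (R ⧸ I) Y M
  have hnat : ∀ w, (φ.restrictScalars R).rTensor M (eX w) = eY (φ.rTensor _ w) := by
    intro w
    induction w with
    | zero => simp
    | tmul a b =>
      induction b with
      | zero => simp
      | tmul s m => simp [eX, eY]
      | add a b ha hb => simp only [tmul_add, map_add, ha, hb]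
    | add a b ha hb => simp only [map_add, ha, hb]
  rw [injective_iff_map_eq_zero]
  intro x hx
  obtain ⟨w, rfl⟩ := eX.surjective x
  rw [hnat] at hx
  rw [(injective_iff_map_eq_zero _).1 (Module.Flat.rTensor_preserves_injective_linearMap φ hφ) w
    ((LinearEquiv.map_eq_zero_iff eY).1 hx), map_zero]

variable [Module.Flat (R ⧸ I) ((R ⧸ I) ⊗[R] M)]

lemma torZero_of_killed_aux {F G Q : Type u} [AddCommGroup F] [Module R F] [Module.Projective R F]
    [AddCommGroup G] [Module R G] [Module (R ⧸ I) G] [IsScalarTower R (R ⧸ I) G]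
    [AddCommGroup Q] [Module R Q] [Module (R ⧸ I) Q] [IsScalarTower R (R ⧸ I) Q]
    (hG : TorZero (R := R) M G) (q : G →ₗ[R ⧸ I] Q) (hq : Function.Surjective q)
    (p : F →ₗ[R] G) (hp : Function.Surjective p) : TorZero (R := R) M Q := by
  let P : F →ₗ[R] Q := q.restrictScalars R ∘ₗ p
  refine torZero_of_presentation (LinearMap.exact_subtype_ker_map P)
    (show Function.Surjective P from hq.comp hp) ((injective_iff_map_eq_zero _).2 fun x hx => ?_)
  -- the image of `x` in `ker q ⊗ M` vanishes by flatness
  let π : LinearMap.ker P →ₗ[R] LinearMap.ker q :=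
    { toFun := fun z => ⟨p z.1, z.2⟩
      map_add' := fun a b => Subtype.ext (map_add p a.1 b.1)
      map_smul' := fun r a => Subtype.ext (map_smul p r a.1) }
  have hπ0 : π.rTensor M x = 0 := by
    apply rTensor_injective_of_flat_quotient I (M := M) (LinearMap.ker q).subtype
      (LinearMap.ker q).injective_subtype
    rw [map_zero, ← LinearMap.rTensor_comp_apply,
      show (LinearMap.ker q).subtype.restrictScalars R ∘ₗ π = p ∘ₗ (LinearMap.ker P).subtype from rfl,
      LinearMap.rTensor_comp_apply, hx, map_zero]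
  have hπs : Function.Surjective π := by
    intro z
    obtain ⟨w, hw⟩ := hp z.1
    exact ⟨⟨w, by
      show q (p w) = 0
      rw [hw]
      exact z.2⟩, Subtype.ext hw⟩
  obtain ⟨y, rfl⟩ := (rTensor_exact M (LinearMap.exact_subtype_ker_map π) hπs _).1 hπ0
  -- `ker π ⊗ M → F ⊗ M` is injective
  have h := hG (LinearMap.ker π) F ((LinearMap.ker P).subtype ∘ₗ (LinearMap.ker π).subtype) p
    (Subtype.val_injective.comp Subtype.val_injective) ?_ hp
  · rw [← LinearMap.rTensor_comp_apply] at hx
    rw [(injective_iff_map_eq_zero _).1 h y hx, map_zero]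
  · intro z
    constructor
    · intro hz
      refine ⟨⟨⟨z, by show q (p z) = 0; rw [hz, map_zero]⟩, ?_⟩, rfl⟩
      exact Subtype.ext hz
    · rintro ⟨w, rfl⟩
      exact congrArg Subtype.val w.2

/-- Modules killed by `I`. -/
lemma torZero_of_killed (htor : Function.Injective (I.subtype.rTensor M)) (Q : Type u)
    [AddCommGroup Q] [Module R Q] (hQ : ∀ r ∈ I, ∀ x : Q, r • x = 0) :
    TorZero (R := R) M Q := by
  have hT : Module.IsTorsionBySet R Q (I : Set R) := fun x r => hQ r.1 r.2 x
  letI : Module (R ⧸ I) Q := hT.module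
  haveI : IsScalarTower R (R ⧸ I) Q := hT.isScalarTower
  exact torZero_of_killed_aux I (F := Q →₀ R) (G := Q →₀ R ⧸ I) (torZero_finsupp I htor Q)
    (Finsupp.linearCombination (R ⧸ I) id) (Finsupp.linearCombination_id_surjective (R ⧸ I) Q)
    (Finsupp.mapRange.linearMap (Submodule.mkQ I))
    (Finsupp.mapRange_surjective _ (map_zero (Submodule.mkQ I)) (Submodule.mkQ_surjective I))

/-- Modules killed by a power of `I`. -/
lemma torZero_of_killed_pow (htor : Function.Injective (I.subtype.rTensor M)) (n : ℕ) :
    ∀ (Q : Type u) [AddCommGroup Q] [Module R Q], (∀ r ∈ I ^ n, ∀ x : Q, r • x = 0) →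
      TorZero (R := R) M Q := by
  induction n with
  | zero =>
    intro Q _ _ hQ
    exact torZero_of_killed I htor Q fun r hr x => by
      rw [← one_smul R x, ← one_smul R (r • 1 • x)]
      exact hQ 1 (by simp) _
  | succ n ih =>
    intro Q _ _ hQ
    refine torZero_extension (i := (I • ⊤ : Submodule R Q).subtype)
      (q := (I • ⊤ : Submodule R Q).mkQ) Subtype.val_injective (LinearMap.exact_subtype_mkQ _)
      (Submodule.mkQ_surjective _) (ih _ fun r hr x => ?_)
      (torZero_of_killed I htor _ fun r hr x => ?_)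
    · apply Subtype.ext
      show r • (x : Q) = 0
      refine Submodule.smul_induction_on x.2 (fun s hs y _ => ?_) fun y z hy hz => ?_
      · rw [smul_smul]
        exact hQ _ (by rw [pow_succ]; exact Ideal.mul_mem_mul hr hs) y
      · rw [smul_add, hy, hz, add_zero]
    · obtain ⟨y, rfl⟩ := Submodule.Quotient.mk_surjective _ x
      rw [← Submodule.Quotient.mk_smul, Submodule.Quotient.mk_eq_zero]
      exact Submodule.smul_mem_smul hr Submodule.mem_top

/-- `M ⊗ R/Iⁿ` is flat over `R/Iⁿ`. -/
theorem flat_quotient_pow_of_torZero (htor : Function.Injective (I.subtype.rTensor M)) (n : ℕ) :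
    Module.Flat (R ⧸ I ^ n) ((R ⧸ I ^ n) ⊗[R] M) := by
  rw [Module.Flat.iff_rTensor_injective']
  intro J
  have hkill : ∀ r ∈ I ^ n, ∀ x : (R ⧸ I ^ n) ⧸ J, r • x = 0 := by
    intro r hr x
    obtain ⟨y, rfl⟩ := Submodule.Quotient.mk_surjective _ x
    obtain ⟨z, rfl⟩ := Ideal.Quotient.mk_surjective y
    rw [← Submodule.Quotient.mk_smul, Submodule.Quotient.mk_eq_zero, Algebra.smul_def,
      Ideal.Quotient.algebraMap_eq, Ideal.Quotient.eq_zero_iff_mem.2 hr, zero_mul]
    exact J.zero_mem
  have h := torZero_of_killed_pow (M := M) I htor n ((R ⧸ I ^ n) ⧸ J) hkill J (R ⧸ I ^ n) (J.subtype.restrictScalars R)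
    ((Submodule.mkQ J).restrictScalars R) Subtype.val_injective
    (fun z => LinearMap.exact_subtype_mkQ J z) (Submodule.mkQ_surjective J)
  let eJ := AlgebraTensorModule.cancelBaseChange R (R ⧸ I ^ n) (R ⧸ I ^ n) J M
  let eA := AlgebraTensorModule.cancelBaseChange R (R ⧸ I ^ n) (R ⧸ I ^ n) (R ⧸ I ^ n) M
  have hnat : ∀ w, eA (J.subtype.rTensor _ w) = (J.subtype.restrictScalars R).rTensor M (eJ w) := by
    intro w
    induction w with
    | zero => simp
    | tmul a b =>
      induction b with
      | zero => simp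
      | tmul s m => simp [eJ, eA]
      | add a b ha hb => simp only [tmul_add, map_add, ha, hb]
    | add a b ha hb => simp only [map_add, ha, hb]
  intro a b hab
  apply eJ.injective
  apply h
  rw [← hnat, ← hnat, hab]

/-- The nilpotent flatness criterion. -/
theorem flat_of_torZero_nilpotent (hI : IsNilpotent I)
    (htor : Function.Injective (I.subtype.rTensor M)) : Module.Flat R M := by
  obtain ⟨n, hn⟩ := hI
  rw [Module.Flat.iff_rTensor_injective']
  intro J
  have hall := torZero_of_killed_pow (M := M) I htor n (R ⧸ J) fun r hr x => by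
    rw [hn] at hr
    rw [(Submodule.mem_bot R).1 hr, zero_smul]
  exact hall J R J.subtype (Submodule.mkQ J) Subtype.val_injective (LinearMap.exact_subtype_mkQ J)
    (Submodule.mkQ_surjective J)

end Quotient

end Groth.MLMod
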