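import Groth.Agent.MLMod.ML
import Mathlib.RingTheory.Flat.Basic
import Mathlib.RingTheory.Flat.FaithfullyFlat.Algebra
import Mathlib.RingTheory.Ideal.Quotient.Operations

/-!
# Mittag-Leffler modules and change of rings
-/

namespace Groth.MLMod

universe u

open TensorProduct CAlg

variable {R S : Type u} [CommRing R] [CommRing S] [Algebra R S]

section Restrict

variable {M : Type u} [AddCommGroup M] [Module R M] [Module S M] [IsScalarTower R S M]

/-- `M ⊗_S (S ⊗_R X) ≅ M ⊗_R X` is natural. -/
lemma cancelBaseChange_natural {X Y : Type u} [AddCommGroup X] [Module R X] [AddCommGroup Y]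
    [Module R Y] (φ : X →ₗ[R] Y) (z : M ⊗[S] (S ⊗[R] X)) :
    AlgebraTensorModule.cancelBaseChange R S S M Y ((φ.baseChange S).lTensor M z) =
      φ.lTensor M (AlgebraTensorModule.cancelBaseChange R S S M X z) := by
  induction z with
  | zero => simp
  | tmul m w =>
    induction w with
    | zero => simp
    | tmul s x => simp
    | add a b ha hb => simp only [tmul_add, map_add, ha, hb]
  | add a b ha hb => simp only [map_add, ha, hb]

omit [Algebra R S] in
lemma piRightHom_comp_proj [Algebra R S] {ι : Type u} (Q : ι → Type u) [∀ i, AddCommGroup (Q i)]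
    [∀ i, Module R (Q i)] (i : ι) :
    (LinearMap.proj i : (∀ i, S ⊗[R] Q i) →ₗ[S] S ⊗[R] Q i) ∘ₗ piRightHom R S S Q =
      (LinearMap.proj i : (∀ i, Q i) →ₗ[R] Q i).baseChange S := by
  refine LinearMap.ext fun z => ?_
  induction z with
  | zero => simp
  | tmul s q => simp
  | add a b ha hb => simp only [map_add, ha, hb]

lemma piRightHom_eq' {ι : Type u} (Q : ι → Type u) [∀ i, AddCommGroup (Q i)]
    [∀ i, Module R (Q i)] (z : S ⊗[R] (∀ i, Q i)) (i : ι) :
    piRightHom R S S Q z i = (LinearMap.proj i : (∀ i, Q i) →ₗ[R] Q i).lTensor S z := by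
  induction z with
  | zero => simp
  | tmul s q => simp
  | add a b ha hb => simp [ha, hb]

/-- Restriction of scalars, given injectivity of `M ⊗ φ`. -/
lemma ml_restrict (hM : IsMittagLeffler S M)
    (hinj : ∀ (ι : Type u) (Q : ι → Type u) [∀ i, AddCommGroup (Q i)] [∀ i, Module R (Q i)],
      Function.Injective ((piRightHom R S S Q).lTensor M)) :
    IsMittagLeffler R M := by
  rw [isML_iff]
  intro ι Q _ _ x hx
  obtain ⟨z, rfl⟩ := (AlgebraTensorModule.cancelBaseChange R S S M (∀ i, Q i)).surjective x
  suffices z = 0 by rw [this, map_zero]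
  apply hinj ι Q
  rw [map_zero]
  refine ml_eq_zero hM _ fun i => ?_
  rw [← LinearMap.lTensor_comp_apply, piRightHom_comp_proj]
  apply (AlgebraTensorModule.cancelBaseChange R S S M (Q i)).injective
  rw [cancelBaseChange_natural, hx i, map_zero]

/-- Flat Mittag-Leffler modules over a Mittag-Leffler algebra. -/
lemma ml_restrict_of_flat (hS : IsMittagLeffler R S) [Module.Flat S M]
    (hM : IsMittagLeffler S M) : IsMittagLeffler R M := by
  refine ml_restrict hM fun ι Q _ _ => Module.Flat.lTensor_preserves_injective_linearMap _ ?_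
  rw [injective_iff_map_eq_zero]
  intro x hx
  refine ml_eq_zero hS x fun i => ?_
  rw [← piRightHom_eq', hx, Pi.zero_apply]

/-- Restriction of scalars along a ring map which is finitely presented as a module. -/
lemma ml_restrict_of_finitePresentation [Module.FinitePresentation R S]
    (hM : IsMittagLeffler S M) : IsMittagLeffler R M := by
  refine ml_restrict hM fun ι Q _ _ => ?_
  have hsurj : Function.Surjective (piRightHom R S S Q) := by
    intro y
    obtain ⟨x, hx⟩ := exists_preimage_pi (R := R) (M := S) y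
    refine ⟨x, funext fun i => ?_⟩
    rw [piRightHom_eq']
    exact hx i
  have hinj : Function.Injective (piRightHom R S S Q) := by
    rw [injective_iff_map_eq_zero]
    intro x hx
    refine ml_eq_zero (ml_of_finitePresentation (M := S)) x fun i => ?_
    rw [← piRightHom_eq', hx, Pi.zero_apply]
  exact ((LinearEquiv.ofBijective _ ⟨hinj, hsurj⟩).lTensor M).injective

end Restrict

section BaseChange

variable {M : Type u} [AddCommGroup M] [Module R M]

variable (M) in
/-- `(S ⊗_R M) ⊗_S X ≅ M ⊗_R X`. -/
noncomputable def theta (X : Type u) [AddCommGroup X] [Module R X] [Module S X]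
    [IsScalarTower R S X] : (S ⊗[R] M) ⊗[S] X ≃+ M ⊗[R] X :=
  ((TensorProduct.comm S (S ⊗[R] M) X).toAddEquiv.trans
    (AlgebraTensorModule.cancelBaseChange R S S X M).toAddEquiv).trans
    (TensorProduct.comm R X M).toAddEquiv

lemma theta_tmul {X : Type u} [AddCommGroup X] [Module R X] [Module S X] [IsScalarTower R S X]
    (s : S) (m : M) (x : X) : theta M X ((s ⊗ₜ[R] m) ⊗ₜ[S] x) = m ⊗ₜ[R] (s • x) := by
  simp [theta]

lemma theta_natural {X Y : Type u} [AddCommGroup X] [Module R X] [Module S X]
    [IsScalarTower R S X] [AddCommGroup Y] [Module R Y] [Module S Y] [IsScalarTower R S Y]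
    (φ : X →ₗ[S] Y) (z : (S ⊗[R] M) ⊗[S] X) :
    theta M Y (φ.lTensor (S ⊗[R] M) z) = (φ.restrictScalars R).lTensor M (theta M X z) := by
  induction z with
  | zero => simp
  | tmul w x =>
    induction w with
    | zero => simp
    | tmul s m => simp [theta_tmul]
    | add a b ha hb => simp only [add_tmul, map_add, ha, hb]
  | add a b ha hb => simp only [map_add, ha, hb]

/-- Base change of Mittag-Leffler modules. -/
lemma ml_baseChange (hM : IsMittagLeffler R M) : IsMittagLeffler S (S ⊗[R] M) := by
  rw [isML_iff]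
  intro ι Q _ _ z hz
  letI : ∀ i, Module R (Q i) := fun i => Module.compHom (Q i) (algebraMap R S)
  haveI : ∀ i, IsScalarTower R S (Q i) := fun i => IsScalarTower.of_compHom R S (Q i)
  apply (theta M (∀ i, Q i)).injective
  rw [map_zero]
  refine ml_eq_zero hM _ fun i => ?_
  have := congrArg (theta M (Q i)) (hz i)
  rw [map_zero, theta_natural] at this
  exact this

/-- Over a faithfully flat algebra, `X → S ⊗ X` is universally injective. -/
lemma ui_mk_one [Module.FaithfullyFlat R S] (X : Type u) [AddCommGroup X] [Module R X] :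
    CAlgX.UniversallyInjective R (TensorProduct.mk R S X 1) := by
  intro Q _ _
  have h : (TensorProduct.assoc R S X Q).toLinearMap ∘ₗ (TensorProduct.mk R S X 1).rTensor Q =
      TensorProduct.mk R S (X ⊗[R] Q) 1 := by
    ext x q
    simp
  have hinj := Module.FaithfullyFlat.tensorProduct_mk_injective (A := R) (B := S) (X ⊗[R] Q)
  rw [← h, LinearMap.coe_comp] at hinj
  exact hinj.of_comp

/-- Faithfully flat descent of the Mittag-Leffler property. -/
lemma ml_descent [Module.FaithfullyFlat R S] (h : IsMittagLeffler S (S ⊗[R] M)) :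
    IsMittagLeffler R M := by
  rw [isML_iff]
  intro ι Q _ _ x hx
  let φ : (∀ i, Q i) →ₗ[R] (∀ i, S ⊗[R] Q i) :=
    LinearMap.pi fun i => TensorProduct.mk R S (Q i) 1 ∘ₗ LinearMap.proj i
  have hφ : Function.Injective (φ.lTensor M) :=
    ui_lTensor (ui_piMap _ fun i => ui_mk_one (Q i)) M
  apply hφ
  rw [map_zero]
  obtain ⟨z, hz⟩ := (theta (S := S) M (∀ i, S ⊗[R] Q i)).surjective (φ.lTensor M x)
  rw [← hz]
  suffices z = 0 by rw [this, map_zero]
  refine ml_eq_zero h z fun i => ?_
  apply (theta M (S ⊗[R] Q i)).injective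
  rw [map_zero, theta_natural, hz, ← LinearMap.lTensor_comp_apply]
  have : ((LinearMap.proj i : (∀ i, S ⊗[R] Q i) →ₗ[S] S ⊗[R] Q i).restrictScalars R) ∘ₗ φ =
      TensorProduct.mk R S (Q i) 1 ∘ₗ (LinearMap.proj i : (∀ i, Q i) →ₗ[R] Q i) := by
    ext; simp [φ]
  rw [this, LinearMap.lTensor_comp_apply, hx i, map_zero]

end BaseChange

end Groth.MLMod
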