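import Groth.Agent.MLMod.Split
import Mathlib.RingTheory.Flat.EquationalCriterion

/-!
# Countably generated Mittag-Leffler modules as countable towers
-/

namespace Groth.MLMod

universe u

open TensorProduct CAlg

variable {R : Type u} [CommRing R]

/-- A finitely presented module over `M`. -/
structure Stage (R : Type u) [CommRing R] (M : Type u) [AddCommGroup M] [Module R M] where
  /-- the module -/
  G : Type u
  [grp : AddCommGroup G]
  [mdl : Module R G]
  [fp : Module.FinitePresentation R G]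
  /-- the map -/
  h : G →ₗ[R] M

attribute [instance] Stage.grp Stage.mdl Stage.fp

variable {M : Type u} [AddCommGroup M] [Module R M]

/-- The image of a stage. -/
abbrev Stage.rng (s : Stage R M) : Submodule R M := LinearMap.range s.h

/-- A good successor of a stage. -/
structure Next (s : Stage R M) (m : M) where
  /-- the successor -/
  t : Stage R M
  /-- the transition map -/
  g : s.G →ₗ[R] t.G
  fac : s.h = t.h ∘ₗ g
  dom : ∀ (N : Type u) [AddCommGroup N] [Module R N] (x : s.G ⊗[R] N),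
    s.h.rTensor N x = 0 → g.rTensor N x = 0
  mem : m ∈ LinearMap.range t.h
  proj : Module.Flat R M → Module.Projective R t.G

lemma exists_next (hM : IsMittagLeffler R M) (s : Stage R M) (m : M) : Nonempty (Next s m) := by
  obtain ⟨Q, _, _, _, g, h, hfac, hdom⟩ :=
    ml_dominate hM (s.h.coprod (LinearMap.toSpanSingleton R M m))
  have hs : s.h = h ∘ₗ g ∘ₗ LinearMap.inl R s.G R := by
    rw [← LinearMap.comp_assoc, ← hfac, LinearMap.coprod_inl]
  have hd : ∀ (N : Type u) [AddCommGroup N] [Module R N] (x : s.G ⊗[R] N),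
      s.h.rTensor N x = 0 → (g ∘ₗ LinearMap.inl R s.G R).rTensor N x = 0 := by
    intro N _ _ x hx
    rw [LinearMap.rTensor_comp_apply]
    apply hdom
    rw [← LinearMap.rTensor_comp_apply, LinearMap.coprod_inl, hx]
  have hm : h (g (0, 1)) = m := by
    rw [← LinearMap.comp_apply, ← hfac]
    simp
  by_cases hflat : Module.Flat R M
  · obtain ⟨k, a, y, hy⟩ := Module.Flat.exists_factorization_of_finitePresentation h
    exact ⟨{
      t := { G := Fin k →₀ R, h := y }
      g := a ∘ₗ g ∘ₗ LinearMap.inl R s.G R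
      fac := by rw [hs, hy, LinearMap.comp_assoc]
      dom := fun N _ _ x hx => by rw [LinearMap.rTensor_comp_apply, hd N x hx, map_zero]
      mem := ⟨a (g (0, 1)), by rw [← LinearMap.comp_apply y a, ← hy, hm]⟩
      proj := fun _ => inferInstance }⟩
  · exact ⟨{
      t := { G := Q, h := h }
      g := g ∘ₗ LinearMap.inl R s.G R
      fac := hs
      dom := hd
      mem := ⟨g (0, 1), hm⟩
      proj := fun h' => absurd h' hflat }⟩

lemma exists_generating_seq (hc : IsCountablyGenerated R M) :
    ∃ m : ℕ → M, Submodule.span R (Set.range m) = ⊤ := by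
  obtain ⟨s, hs, hspan⟩ := hc
  obtain ⟨m, hm⟩ := (hs.insert 0).exists_eq_range (Set.insert_nonempty _ _)
  exact ⟨m, eq_top_iff.2 (hspan.symm.le.trans
    (Submodule.span_mono ((Set.subset_insert 0 s).trans hm.le)))⟩

/-- A countable tower computing `M`. -/
structure Tower (R : Type u) [CommRing R] (M : Type u) [AddCommGroup M] [Module R M] where
  /-- the stages -/
  st : ℕ → Stage R M
  /-- the transition maps -/
  g : ∀ n, (st n).G →ₗ[R] (st (n + 1)).G
  fac : ∀ n, (st n).h = (st (n + 1)).h ∘ₗ g n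
  dom : ∀ (n : ℕ) (N : Type u) [AddCommGroup N] [Module R N] (x : (st n).G ⊗[R] N),
    (st n).h.rTensor N x = 0 → (g n).rTensor N x = 0
  exhaust : ∀ x : M, ∃ n, x ∈ LinearMap.range (st n).h
  proj : Module.Flat R M → ∀ n, Module.Projective R (st (n + 1)).G

/-- A tower with prescribed start. -/
lemma exists_tower (hM : IsMittagLeffler R M) (hc : IsCountablyGenerated R M) (s₀ : Stage R M) :
    ∃ T : Tower R M, T.st 0 = s₀ := by
  obtain ⟨m, hm⟩ := exists_generating_seq hc
  let nx := fun (s : Stage R M) (n : ℕ) => Classical.choice (exists_next hM s (m n))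
  let st : ℕ → Stage R M := fun n => Nat.rec s₀ (fun n s => (nx s n).t) n
  have hmem : ∀ n, m n ∈ LinearMap.range (st (n + 1)).h := fun n => (nx (st n) n).mem
  have hmono : Monotone fun n : ℕ => (st n).rng := monotone_nat_of_le_succ fun n => by
    show LinearMap.range (st n).h ≤ LinearMap.range (nx (st n) n).t.h
    conv_lhs => rw [(nx (st n) n).fac]
    exact LinearMap.range_comp_le_range _ _
  refine ⟨{ st := st, g := fun n => (nx (st n) n).g, fac := fun n => (nx (st n) n).fac,
            dom := fun n => (nx (st n) n).dom, exhaust := fun x => ?_,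
            proj := fun h n => (nx (st n) n).proj h }, rfl⟩
  have : x ∈ ⨆ n, (st n).rng := by
    have htop : ⊤ ≤ ⨆ n, (st n).rng := by
      rw [← hm, Submodule.span_le]
      rintro _ ⟨n, rfl⟩
      exact Submodule.mem_iSup_of_mem (n + 1) (hmem n)
    exact htop Submodule.mem_top
  exact (Submodule.mem_iSup_of_directed _ hmono.directed_le).1 this

namespace Tower

variable (T : Tower R M)

lemma g_eq_zero (n : ℕ) (x : (T.st n).G) (hx : (T.st n).h x = 0) : T.g n x = 0 := by
  have := T.dom n R (x ⊗ₜ 1) (by simp [hx])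
  simpa using congrArg (TensorProduct.rid R (T.st (n + 1)).G) this

/-- The retraction of transition maps. -/
lemma exists_retract (n : ℕ) : ∃ r : (T.st (n + 2)).G →ₗ[R] (T.st (n + 1)).G,
    T.g n = r ∘ₗ T.g (n + 1) ∘ₗ T.g n := by
  have : Module.FinitePresentation R
      ((T.st (n + 2)).G ⧸ LinearMap.range (T.g (n + 1) ∘ₗ T.g n)) :=
    Module.finitePresentation_of_surjective _ (Submodule.mkQ_surjective _)
      (by rw [Submodule.ker_mkQ, LinearMap.range_eq_map]; exact Module.Finite.fg_top.map _)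
  refine exists_factor_of_dominates (T.g (n + 1) ∘ₗ T.g n) (T.g n) fun X _ _ y hy => ?_
  apply T.dom
  rw [T.fac n, T.fac (n + 1), LinearMap.comp_assoc, LinearMap.rTensor_comp_apply, hy, map_zero]

variable {E : Type u} [AddCommGroup E] [Module R E]

/-- Descend a compatible family of maps to `M`. -/
lemma exists_desc (s : ∀ n, (T.st n).G →ₗ[R] E) (hs : ∀ n, s (n + 1) ∘ₗ T.g n = s n) :
    ∃ a : M →ₗ[R] E, ∀ n, a ∘ₗ (T.st n).h = s n := by
  have htrans : ∀ i j, i ≤ j → ∃ t : (T.st i).G →ₗ[R] (T.st j).G,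
      (T.st j).h ∘ₗ t = (T.st i).h ∧ s j ∘ₗ t = s i := by
    intro i j hij
    induction j, hij using Nat.le_induction with
    | base => exact ⟨LinearMap.id, rfl, rfl⟩
    | succ k _ ih =>
      obtain ⟨t, ht, ht'⟩ := ih
      exact ⟨T.g k ∘ₗ t, by rw [← LinearMap.comp_assoc, ← T.fac k, ht],
        by rw [← LinearMap.comp_assoc, hs k, ht']⟩
  have hwd : ∀ i j (x : (T.st i).G) (y : (T.st j).G),
      (T.st i).h x = (T.st j).h y → s i x = s j y := by
    intro i j x y hxy
    obtain ⟨t, ht, ht'⟩ := htrans i (max i j) (le_max_left _ _)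
    obtain ⟨t', hu, hu'⟩ := htrans j (max i j) (le_max_right _ _)
    have h0 : (T.st (max i j)).h (t x - t' y) = 0 := by
      rw [map_sub, ← LinearMap.comp_apply, ht, ← LinearMap.comp_apply, hu, hxy, sub_self]
    have h1 := congrArg (s (max i j + 1)) (T.g_eq_zero _ _ h0)
    rw [map_zero, ← LinearMap.comp_apply, hs, map_sub, ← LinearMap.comp_apply, ht',
      ← LinearMap.comp_apply, hu', sub_eq_zero] at h1
    exact h1
  choose i x hx using T.exhaust
  refine ⟨{ toFun := fun z => s (i z) (x z), map_add' := fun z w => ?_, map_smul' := fun c z => ?_ },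
    fun n => LinearMap.ext fun y => hwd _ _ _ _ (hx _)⟩
  · obtain ⟨t, ht, ht'⟩ := htrans (i z) (max (i z) (i w)) (le_max_left _ _)
    obtain ⟨t', hu, hu'⟩ := htrans (i w) (max (i z) (i w)) (le_max_right _ _)
    rw [hwd (i (z + w)) (max (i z) (i w)) (x (z + w)) (t (x z) + t' (x w))
      (by rw [hx, map_add, ← LinearMap.comp_apply, ht, ← LinearMap.comp_apply, hu, hx, hx]),
      map_add, ← LinearMap.comp_apply, ht', ← LinearMap.comp_apply, hu']
  · rw [RingHom.id_apply, hwd (i (c • z)) (i z) (x (c • z)) (c • x z)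
      (by rw [hx, map_smul, hx]), map_smul]

end Tower

/-- Endomorphisms through finitely presented modules. -/
lemma exists_endo (hM : IsMittagLeffler R M) (hc : IsCountablyGenerated R M) {n : ℕ}
    (f : (Fin n → R) →ₗ[R] M) :
    ∃ (Q : Type u) (_ : AddCommGroup Q) (_ : Module R Q) (_ : Module.FinitePresentation R Q)
      (b : M →ₗ[R] Q) (c : Q →ₗ[R] M), (c ∘ₗ b) ∘ₗ f = f := by
  obtain ⟨T, hT⟩ := exists_tower hM hc { G := Fin n → R, h := f }
  choose r hr using fun k => T.exists_retract k
  let C : ∀ k, (T.st (k + 1)).G →ₗ[R] (T.st 1).G :=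
    fun k => Nat.rec LinearMap.id (fun k c => c ∘ₗ r k) k
  obtain ⟨b, hb⟩ := T.exists_desc (fun k => C k ∘ₗ T.g k) fun k => by
    show (C k ∘ₗ r k) ∘ₗ T.g (k + 1) ∘ₗ T.g k = C k ∘ₗ T.g k
    rw [LinearMap.comp_assoc, ← hr k]
  refine ⟨(T.st 1).G, inferInstance, inferInstance, inferInstance, b, (T.st 1).h, ?_⟩
  have h0 : ((T.st 1).h ∘ₗ b) ∘ₗ (T.st 0).h = (T.st 0).h := by
    rw [LinearMap.comp_assoc, hb 0]
    exact (T.fac 0).symm
  have key : ∀ s : Stage R M, s = { G := Fin n → R, h := f } →
      ((T.st 1).h ∘ₗ b) ∘ₗ s.h = s.h → ((T.st 1).h ∘ₗ b) ∘ₗ f = f := by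
    rintro s rfl hs
    exact hs
  exact key _ hT h0

/-- Countably generated flat Mittag-Leffler modules are projective. -/
lemma projective_of_flat_ml [Module.Flat R M] (hM : IsMittagLeffler R M)
    (hc : IsCountablyGenerated R M) : Module.Projective R M := by
  obtain ⟨T, -⟩ := exists_tower hM hc { G := PUnit, h := 0 }
  let p : (M →₀ R) →ₗ[R] M := Finsupp.linearCombination R id
  have hp : Function.Surjective p := Finsupp.linearCombination_id_surjective R M
  have := T.proj ‹_›
  choose r hr using fun k => T.exists_retract k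
  choose l hl using fun k => Module.projective_lifting_property p (T.st (k + 1)).h hp
  let u : ∀ k, {u : (T.st (k + 1)).G →ₗ[R] (M →₀ R) // p ∘ₗ u = (T.st (k + 1)).h} :=
    fun k => Nat.rec ⟨l 0, hl 0⟩ (fun k u => ⟨l (k + 1) + (u.1 - l (k + 1) ∘ₗ T.g (k + 1)) ∘ₗ r k,
      by rw [LinearMap.comp_add, ← LinearMap.comp_assoc, LinearMap.comp_sub, ← LinearMap.comp_assoc,
        u.2, hl (k + 1), ← T.fac (k + 1), sub_self, LinearMap.zero_comp, add_zero]⟩) k
  obtain ⟨σ, hσ⟩ := T.exists_desc (fun k => (u k).1 ∘ₗ T.g k) fun k => by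
    show ((l (k + 1) + ((u k).1 - l (k + 1) ∘ₗ T.g (k + 1)) ∘ₗ r k) ∘ₗ T.g (k + 1)) ∘ₗ T.g k =
      (u k).1 ∘ₗ T.g k
    rw [LinearMap.comp_assoc, LinearMap.add_comp,
      LinearMap.comp_assoc (T.g (k + 1) ∘ₗ T.g k) (r k), ← hr k, LinearMap.sub_comp,
      LinearMap.comp_assoc]
    abel
  refine Module.Projective.of_split σ p (LinearMap.ext fun x => ?_)
  obtain ⟨k, y, rfl⟩ := T.exhaust x
  rw [LinearMap.comp_apply, ← LinearMap.comp_apply σ, hσ k, ← LinearMap.comp_apply,
    ← LinearMap.comp_assoc, (u k).2, ← T.fac k, LinearMap.id_apply]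

end Groth.MLMod
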