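import Groth.Agent.MLMod.Projective
import Groth.Agent.MLMod.Scalar
import Groth.Agent.MLMod.Tower
import Mathlib.RingTheory.Flat.FaithfullyFlat.Basic

/-!
# Faithfully flat descent of projectivity (Raynaud–Gruson)

Given a decomposition `S ⊗ M = ⊕ Nᵢ` into countably generated projectives, we grow submodules `M'`
of `M` whose base change is a partial sum `⊕_{i ∈ I} Nᵢ` and which are direct sums of projectives.
-/

namespace Groth.MLMod

universe u

open TensorProduct CAlg

variable {R : Type u} [CommRing R] (S : Type u) [CommRing S] [Algebra R S]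
variable {M : Type u} [AddCommGroup M] [Module R M]

/-- The `S`-submodule of `S ⊗ M` generated by a submodule of `M`. -/
noncomputable def bc (N : Submodule R M) : Submodule S (S ⊗[R] M) :=
  Submodule.span S (TensorProduct.mk R S M 1 '' (N : Set M))

variable {S}

lemma bc_le_iff {N : Submodule R M} {W : Submodule S (S ⊗[R] M)} :
    bc S N ≤ W ↔ N ≤ (W.restrictScalars R).comap (TensorProduct.mk R S M 1) := by
  rw [bc, Submodule.span_le]
  exact Set.image_subset_iff

lemma bc_gc : GaloisConnection (bc S (M := M))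
    fun W : Submodule S (S ⊗[R] M) => (W.restrictScalars R).comap (TensorProduct.mk R S M 1) :=
  fun _ _ => bc_le_iff

lemma range_baseChange_subtype (N : Submodule R M) :
    LinearMap.range (N.subtype.baseChange S) = bc S N := by
  apply le_antisymm
  · rintro _ ⟨z, rfl⟩
    induction z with
    | zero => simp
    | tmul s x =>
      have : s ⊗ₜ[R] (x : M) = s • ((1 : S) ⊗ₜ[R] (x : M)) := by
        rw [TensorProduct.smul_tmul', smul_eq_mul, mul_one]
      simp only [LinearMap.baseChange_tmul, Submodule.coe_subtype, this]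
      exact Submodule.smul_mem _ s (Submodule.subset_span ⟨x, x.2, rfl⟩)
    | add a b ha hb => rw [map_add]; exact Submodule.add_mem _ ha hb
  · rw [bc, Submodule.span_le]
    rintro _ ⟨x, hx, rfl⟩
    exact ⟨1 ⊗ₜ ⟨x, hx⟩, rfl⟩

variable {κ : Type u} (N : κ → Submodule S (S ⊗[R] M))

/-- A partial sum. -/
abbrev part (I : Set κ) : Submodule S (S ⊗[R] M) := ⨆ i ∈ I, N i

/-- Closure step: a countably generated submodule whose base change is a partial sum. -/
lemma exists_cg_with_bc_eq_part (htop : ⨆ i, N i = ⊤) (hcg : ∀ i, SubCG (N i)) (m₀ : M) :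
    ∃ (M'' : Submodule R M) (J : Set κ), SubCG M'' ∧ m₀ ∈ M'' ∧ bc S M'' = part N J := by
  classical
  have hsupp : ∀ x : M, ∃ t : Finset κ, (1 : S) ⊗ₜ[R] x ∈ ⨆ i ∈ t, N i := fun x =>
    Submodule.exists_finset_of_mem_iSup N (htop ▸ Submodule.mem_top)
  choose t ht using hsupp
  have hgen : ∀ i, ∃ s : Set M, s.Countable ∧ N i ≤ bc S (Submodule.span R s) := by
    intro i
    obtain ⟨g, hg, hspan⟩ := hcg i
    choose k a m hw using fun w : S ⊗[R] M => TensorProduct.exists_sum_tmul_eq w
    refine ⟨⋃ w ∈ g, Set.range (m w), hg.biUnion fun w _ => (Set.finite_range _).countable, ?_⟩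
    rw [← hspan, Submodule.span_le]
    intro w hwg
    rw [SetLike.mem_coe, hw w]
    refine Submodule.sum_mem _ fun j _ => ?_
    have : a w j ⊗ₜ[R] m w j = a w j • ((1 : S) ⊗ₜ[R] m w j) := by
      rw [TensorProduct.smul_tmul', smul_eq_mul, mul_one]
    rw [this]
    exact Submodule.smul_mem _ _ (Submodule.subset_span
      ⟨m w j, Submodule.subset_span (Set.mem_biUnion hwg ⟨j, rfl⟩), rfl⟩)
  choose g hgc hg using hgen
  let T : M ⊕ κ → Set (M ⊕ κ) := Sum.elim (fun x => Sum.inr '' ↑(t x)) fun i => Sum.inl '' g i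
  obtain ⟨Z, hZc, hZ₀, hZ⟩ := exists_countable_closure T
    (by rintro (x | i); exacts [((t x).countable_toSet).image _, (hgc i).image _])
    (Set.countable_singleton (Sum.inl m₀))
  refine ⟨Submodule.span R (Sum.inl ⁻¹' Z), Sum.inr ⁻¹' Z,
    ⟨_, hZc.preimage Sum.inl_injective, rfl⟩, Submodule.subset_span (hZ₀ rfl), le_antisymm ?_ ?_⟩
  · rw [bc_le_iff, Submodule.span_le]
    intro x hx
    have hle : (⨆ i ∈ t x, N i) ≤ part N (Sum.inr ⁻¹' Z) :=
      biSup_mono fun i hi => hZ _ hx ⟨i, hi, rfl⟩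
    exact hle (ht x)
  · exact iSup₂_le fun i hi => (hg i).trans (bc_gc.monotone_l
      (Submodule.span_mono fun x hx => hZ _ hi ⟨x, hx, rfl⟩))

lemma isCompl_part (hind : iSupIndep N) (htop : ⨆ i, N i = ⊤) (K : Set κ) :
    IsCompl (part N K) (part N Kᶜ) := by
  refine ⟨hind.disjoint_biSup_biSup disjoint_compl_right, ?_⟩
  rw [codisjoint_iff, ← iSup_union, Set.union_compl_self, iSup_univ, htop]

/-- The base change of the image of `M''` in `M ⧸ M'` has the same relations as the projection. -/
lemma baseChange_image_eq_zero_iff [Module.Flat R S] (M' M'' : Submodule R M)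
    (z : S ⊗[R] M'') :
    (M'.mkQ.submoduleMap M'').baseChange S z = 0 ↔ M''.subtype.baseChange S z ∈ bc S M' := by
  have hinj : Function.Injective ((M''.map M'.mkQ).subtype.lTensor S) :=
    Module.Flat.lTensor_preserves_injective_linearMap _ (M''.map M'.mkQ).injective_subtype
  simp only [← range_baseChange_subtype, LinearMap.mem_range, LinearMap.baseChange_eq_ltensor]
  rw [← map_eq_zero_iff _ hinj, ← LinearMap.lTensor_comp_apply]
  have hcomp : (M''.map M'.mkQ).subtype ∘ₗ M'.mkQ.submoduleMap M'' = M'.mkQ ∘ₗ M''.subtype := rfl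
  rw [hcomp, LinearMap.lTensor_comp_apply]
  exact (lTensor_exact S (LinearMap.exact_subtype_mkQ M') M'.mkQ_surjective) _

/-- Surjections with the same kernel have isomorphic targets. -/
lemma projective_of_ker_eq {A U V W : Type u} [CommRing A] [AddCommGroup U] [Module A U]
    [AddCommGroup V] [Module A V] [AddCommGroup W] [Module A W] [Module.Projective A V]
    (f : U →ₗ[A] V) (g : U →ₗ[A] W) (hf : Function.Surjective f) (hg : Function.Surjective g)
    (h : LinearMap.ker f = LinearMap.ker g) : Module.Projective A W :=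
  Module.Projective.of_equiv (((LinearMap.quotKerEquivOfSurjective f hf).symm ≪≫ₗ
    Submodule.quotEquivOfEq _ _ h) ≪≫ₗ LinearMap.quotKerEquivOfSurjective g hg)

/-- The key step: the image of `M''` in `M ⧸ M'` becomes projective after base change. -/
lemma projective_baseChange_image [Module.Flat R S] [Module.Projective S (S ⊗[R] M)]
    (hind : iSupIndep N) (htop : ⨆ i, N i = ⊤) (M' M'' : Submodule R M) (I J : Set κ)
    (hI : bc S M' = part N I) (hJ : bc S M'' = part N J) :
    Module.Projective S (S ⊗[R] (M''.map M'.mkQ)) := by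
  have hcompl := isCompl_part N hind htop (J \ I)
  haveI : Module.Projective S (part N (J \ I)) :=
    Module.Projective.of_split (part N (J \ I)).subtype
      ((part N (J \ I)).projectionOnto _ hcompl)
      (LinearMap.ext fun z => Submodule.projectionOnto_apply_left hcompl z)
  let ψ : S ⊗[R] M'' →ₗ[S] part N (J \ I) :=
    (part N (J \ I)).projectionOnto _ hcompl ∘ₗ M''.subtype.baseChange S
  let qS : S ⊗[R] M'' →ₗ[S] S ⊗[R] (M''.map M'.mkQ) := (M'.mkQ.submoduleMap M'').baseChange S
  have hqS : Function.Surjective qS :=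
    LinearMap.lTensor_surjective S (M'.mkQ.submoduleMap_surjective M'')
  have hker : LinearMap.ker qS = LinearMap.ker ψ := by
    ext z
    rw [LinearMap.mem_ker, baseChange_image_eq_zero_iff, hI, LinearMap.mem_ker,
      LinearMap.comp_apply, Submodule.projectionOnto_apply_eq_zero_iff hcompl]
    constructor
    · intro h
      exact (biSup_mono (fun i hi => fun hK => hK.2 hi) : part N I ≤ part N (J \ I)ᶜ) h
    · intro h
      have hz : M''.subtype.baseChange S z ∈ part N J := by
        rw [← hJ, ← range_baseChange_subtype]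
        exact ⟨z, rfl⟩
      have hsplit : part N J ≤ part N (J \ I) ⊔ part N (J ∩ I) := by
        rw [← iSup_union]
        exact biSup_mono fun i hi => by
          by_cases hiI : i ∈ I
          · exact Or.inr ⟨hi, hiI⟩
          · exact Or.inl ⟨hi, hiI⟩
      obtain ⟨a, ha, b, hb, hab⟩ := Submodule.mem_sup.1 (hsplit hz)
      have hbK : b ∈ part N (J \ I)ᶜ :=
        (biSup_mono (fun i hi => fun hK => hK.2 hi.2) : part N (J ∩ I) ≤ part N (J \ I)ᶜ) hb
      have ha0 : a = 0 := Submodule.disjoint_def.1 hcompl.disjoint a ha (by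
        rw [eq_sub_of_add_eq hab]
        exact Submodule.sub_mem _ h hbK)
      rw [← hab, ha0, zero_add]
      exact (biSup_mono fun i hi => hi.2 : part N (J ∩ I) ≤ part N I) hb
  have hψ : Function.Surjective ψ := by
    intro y
    obtain ⟨z, hz⟩ : (y : S ⊗[R] M) ∈ LinearMap.range (M''.subtype.baseChange S) := by
      rw [range_baseChange_subtype, hJ]
      exact (biSup_mono fun i hi => hi.1 : part N (J \ I) ≤ part N J) y.2
    exact ⟨z, by rw [LinearMap.comp_apply, hz, Submodule.projectionOnto_apply_left hcompl y]⟩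
  exact projective_of_ker_eq (A := S) (U := S ⊗[R] M'') (V := part N (J \ I)) ψ qS hψ hqS
    hker.symm

/-- A projective complement of `M'` in `M'' ⊔ M'`. -/
lemma exists_projective_complement (M' M'' : Submodule R M)
    [Module.Projective R (M''.map M'.mkQ)] :
    ∃ C : Submodule R M, Disjoint C M' ∧ C ⊔ M' = M'' ⊔ M' ∧ Module.Projective R C := by
  obtain ⟨σ, hσ⟩ := Module.projective_lifting_property (M'.mkQ.submoduleMap M'')
    LinearMap.id (M'.mkQ.submoduleMap_surjective M'')
  have hqσ : ∀ x : M''.map M'.mkQ, M'.mkQ (σ x : M) = (x : M ⧸ M') := fun x =>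
    congrArg Subtype.val (LinearMap.congr_fun hσ x)
  refine ⟨LinearMap.range (M''.subtype ∘ₗ σ), ?_, le_antisymm (sup_le_sup_right ?_ _)
    (sup_le ?_ le_sup_right), ?_⟩
  · rw [Submodule.disjoint_def]
    rintro _ ⟨x, rfl⟩ hx
    have : (x : M ⧸ M') = 0 := by
      rw [← hqσ x]
      exact (Submodule.Quotient.mk_eq_zero _).2 hx
    rw [show x = 0 from Subtype.ext this, map_zero]
  · rintro _ ⟨x, rfl⟩
    exact (σ x).2
  · intro x hx
    refine Submodule.mem_sup.2 ⟨_, ⟨M'.mkQ.submoduleMap M'' ⟨x, hx⟩, rfl⟩,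
      x - (σ (M'.mkQ.submoduleMap M'' ⟨x, hx⟩) : M), ?_, by simp⟩
    rw [← Submodule.Quotient.mk_eq_zero M', Submodule.Quotient.mk_sub, sub_eq_zero]
    exact (hqσ (M'.mkQ.submoduleMap M'' ⟨x, hx⟩)).symm
  · refine Module.Projective.of_equiv (LinearEquiv.ofInjective _ ?_)
    intro a b hab
    apply Subtype.ext
    rw [← hqσ a, ← hqσ b]
    exact congrArg M'.mkQ hab

/-- One step of the dévissage. -/
lemma exists_step [Module.FaithfullyFlat R S] [Module.Projective S (S ⊗[R] M)]
    (hind : iSupIndep N) (htop : ⨆ i, N i = ⊤) (hcg : ∀ i, SubCG (N i))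
    (M' : Submodule R M) (I : Set κ) (hI : bc S M' = part N I) (m₀ : M) :
    ∃ (M₁ C : Submodule R M) (J : Set κ), m₀ ∈ M₁ ∧ M' ≤ M₁ ∧ bc S M₁ = part N (I ∪ J) ∧
      Disjoint C M' ∧ C ⊔ M' = M₁ ∧ Module.Projective R C := by
  obtain ⟨M'', J, hM''c, hm₀, hJ⟩ := exists_cg_with_bc_eq_part N htop hcg m₀
  haveI := projective_baseChange_image N hind htop M' M'' I J hI hJ
  haveI : Module.Flat R (M''.map M'.mkQ) := Module.Flat.of_flat_tensorProduct R _ S
  haveI : Module.Projective R (M''.map M'.mkQ) :=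
    projective_of_flat_ml (ml_descent (ml_of_projective (R := S) (M := S ⊗[R] (M''.map M'.mkQ))))
      (subCG_iff.1 (hM''c.map _))
  obtain ⟨C, hd, hs, hp⟩ := exists_projective_complement M' M''
  refine ⟨M'' ⊔ M', C, J, Submodule.mem_sup_left hm₀, le_sup_right, ?_, hd, hs, hp⟩
  rw [show bc S (M'' ⊔ M') = bc S M'' ⊔ bc S M' from bc_gc.l_sup, hJ, hI, sup_comm]
  exact iSup_union.symm

/-- Faithfully flat descent of projectivity, given a decomposition upstairs. -/
lemma projective_descent_aux [Module.FaithfullyFlat R S] [Module.Projective S (S ⊗[R] M)]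
    (hind : iSupIndep N) (htop : ⨆ i, N i = ⊤) (hcg : ∀ i, SubCG (N i)) :
    Module.Projective R M := by
  classical
  let G : Set (Submodule R M × Set κ × Set (Submodule R M)) :=
    {p | bc S p.1 = part N p.2.1 ∧ sSupIndep p.2.2 ∧ sSup p.2.2 = p.1 ∧
      ∀ l ∈ p.2.2, Module.Projective R l}
  obtain ⟨⟨M', I, L⟩, ⟨hbc, hindL, hsup, hproj⟩, hmax⟩ : ∃ m, Maximal (· ∈ G) m := by
    refine zorn_le₀ G fun c hcG hchain => ?_
    refine ⟨(⨆ p ∈ c, p.1, ⋃ p ∈ c, p.2.1, ⋃ p ∈ c, p.2.2), ⟨?_, ?_, ?_, ?_⟩, fun p hp =>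
      ⟨le_biSup (fun p : Submodule R M × Set κ × Set (Submodule R M) => p.1) hp,
        fun x hx => Set.mem_biUnion hp hx, fun x hx => Set.mem_biUnion hp hx⟩⟩
    · show bc S (⨆ p ∈ c, p.1) = part N (⋃ p ∈ c, p.2.1)
      simp only [bc_gc.l_iSup, part]
      rw [iSup_iUnion]
      refine iSup_congr fun p => ?_
      rw [iSup_iUnion]
      exact iSup_congr fun hp => (hcG hp).1
    · show sSupIndep (⋃ p ∈ c, p.2.2)
      rw [← Set.sUnion_image (fun p : Submodule R M × Set κ × Set (Submodule R M) => p.2.2) c]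
      refine iSupIndep_sUnion_of_directed ?_ ?_
      · exact (hchain.image_of_map_rel
          (fun a b : Submodule R M × Set κ × Set (Submodule R M) => a ≤ b)
          (fun a b : Set (Submodule R M) => a ⊆ b)
          (fun p => p.2.2) fun a b hab => hab.2.2).directedOn
      · rintro _ ⟨p, hp, rfl⟩
        exact (hcG hp).2.1
    · show sSup (⋃ p ∈ c, p.2.2) = ⨆ p ∈ c, p.1
      rw [sSup_eq_iSup, iSup_iUnion]
      refine iSup_congr fun p => ?_
      rw [iSup_iUnion]
      refine iSup_congr fun hp => ?_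
      rw [← sSup_eq_iSup, (hcG hp).2.2.1]
    · intro l hl
      obtain ⟨p, hp, hl'⟩ := Set.mem_iUnion₂.1 hl
      exact (hcG hp).2.2.2 l hl'
  suffices hM' : M' = ⊤ by
    have hint := isInternal_of_sSupIndep hindL (hsup.trans hM')
    haveI : ∀ l : L, Module.Projective R l.1 := fun l => hproj l.1 l.2
    exact Module.Projective.of_equiv
      (LinearEquiv.ofBijective (DirectSum.coeLinearMap fun l : L => l.1) hint)
  by_contra hne
  obtain ⟨m₀, hm₀⟩ : ∃ m₀, m₀ ∉ M' := by
    by_contra h
    push_neg at h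
    exact hne (Submodule.eq_top_iff'.2 h)
  obtain ⟨M₁, C, J, hm₁, hle, hbc₁, hd, hs, hp⟩ := exists_step N hind htop hcg M' I hbc m₀
  dsimp only at hsup
  have hnew : (M₁, I ∪ J, insert C L) ∈ G := by
    refine ⟨hbc₁, sSupIndep_insert_of_disjoint hindL (hsup ▸ hd), ?_, ?_⟩
    · show sSup (insert C L) = M₁
      rw [sSup_insert, hsup, hs]
    · rintro l (rfl | hl)
      · exact hp
      · exact hproj l hl
  exact hm₀ ((hmax hnew ⟨hle, Set.subset_union_left, Set.subset_insert _ _⟩).1 hm₁)

/-- Faithfully flat descent of projectivity. -/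
theorem projective_descent [Module.FaithfullyFlat R S] [Module.Projective S (S ⊗[R] M)] :
    Module.Projective R M := by
  obtain ⟨L₀, hind₀, htop₀, hcg₀⟩ :=
    exists_decomposition_of_projective (R := S) (M := S ⊗[R] M)
  exact projective_descent_aux (fun l : L₀ => l.1) ((sSupIndep_iff _).1 hind₀)
    (by rw [← htop₀, sSup_eq_iSup']) fun l => hcg₀ l.1 l.2

end Groth.MLMod
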