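import Groth.Prelude.Def_CAlgX
import Mathlib.LinearAlgebra.TensorProduct.Vanishing
import Mathlib.LinearAlgebra.TensorProduct.RightExactness
import Mathlib.LinearAlgebra.TensorProduct.Pi
import Mathlib.RingTheory.TensorProduct.DirectLimitFG
import Mathlib.Algebra.Module.FinitePresentation

/-!
# Universally injective maps: basic tools

`Rel a` is the finitely presented module with generators indexed by `ι` and relations given by the
columns of `a : ι → κ → R`. It tests universal injectivity and vanishing in tensor products.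
-/

namespace Groth.MLMod

universe u

open TensorProduct

variable {R : Type u} [CommRing R]

section Rel

variable {ι κ : Type} [Fintype ι] [Fintype κ]

/-- The relation submodule of a matrix. -/
noncomputable def relSub (a : ι → κ → R) : Submodule R (ι → R) :=
  Submodule.span R (Set.range fun j => fun i => a i j)

/-- The module presented by a matrix. -/
abbrev Rel (a : ι → κ → R) : Type u := (ι → R) ⧸ relSub a

instance rel_finitePresentation (a : ι → κ → R) : Module.FinitePresentation R (Rel a) :=
  Module.finitePresentation_of_surjective _ (Submodule.mkQ_surjective _)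
    (by rw [Submodule.ker_mkQ]; exact Submodule.fg_span (Set.finite_range _))

/-- The generators of `Rel a`. -/
noncomputable def gen (a : ι → κ → R) (i : ι) : Rel a := by
  classical exact Submodule.Quotient.mk (Pi.single i 1)

omit [Fintype κ] in
lemma sum_smul_gen (a : ι → κ → R) (c : ι → R) :
    ∑ i, c i • gen a i = Submodule.Quotient.mk c := by
  classical
  have hc : c = ∑ i, c i • (Pi.single i 1 : ι → R) := by
    ext i
    simp [Finset.sum_apply, Pi.single_apply]
  conv_rhs => rw [hc, ← Submodule.mkQ_apply, map_sum]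
  simp only [map_smul, Submodule.mkQ_apply, gen]

lemma sum_relation (a : ι → κ → R) (j : κ) : ∑ i, a i j • gen a i = 0 := by
  rw [sum_smul_gen]
  exact (Submodule.Quotient.mk_eq_zero _).2 (Submodule.subset_span ⟨j, rfl⟩)

lemma span_gen (a : ι → κ → R) : Submodule.span R (Set.range (gen a)) = ⊤ := by
  rw [eq_top_iff]
  rintro x -
  obtain ⟨c, rfl⟩ := Submodule.Quotient.mk_surjective _ x
  rw [← sum_smul_gen a c]
  exact Submodule.sum_mem _ fun i _ => Submodule.smul_mem _ _ (Submodule.subset_span ⟨i, rfl⟩)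

variable {M Q : Type u} [AddCommGroup M] [Module R M] [AddCommGroup Q] [Module R Q]

/-- The map out of `Rel a` given by a family satisfying the relations. -/
noncomputable def liftRel (a : ι → κ → R) (q : ι → Q) (hq : ∀ j, ∑ i, a i j • q i = 0) :
    Rel a →ₗ[R] Q :=
  (relSub a).liftQ (Fintype.linearCombination R q) <| by
    rw [relSub, Submodule.span_le]
    rintro _ ⟨j, rfl⟩
    simpa [Fintype.linearCombination_apply] using hq j

omit [Fintype κ] in
lemma liftRel_gen (a : ι → κ → R) (q : ι → Q) (hq) (i : ι) : liftRel a q hq (gen a i) = q i := by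
  classical
  simp [liftRel, gen, Fintype.linearCombination_apply_single]

/-- Vanishing in `M ⊗ Rel a`. -/
lemma sum_tmul_gen_eq_zero_iff (a : ι → κ → R) (m : ι → M) :
    ∑ i, m i ⊗ₜ[R] gen a i = 0 ↔ ∃ y : κ → M, ∀ i, m i = ∑ j, a i j • y j := by
  constructor
  · intro h
    have h' : ∑ i, gen a i ⊗ₜ[R] m i = 0 := by
      have := congrArg (TensorProduct.comm R M (Rel a)) h
      simpa using this
    obtain ⟨k, b, z, hz, hb⟩ := vanishesTrivially_of_sum_tmul_eq_zero R (span_gen a) h'
    have hc : ∀ l, ∃ c : κ → R, ∀ i, b i l = ∑ j, c j * a i j := by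
      intro l
      have := hb l
      rw [sum_smul_gen, Submodule.Quotient.mk_eq_zero] at this
      obtain ⟨c, hc⟩ := (Submodule.mem_span_range_iff_exists_fun R).1 this
      exact ⟨c, fun i => by simpa using (congrFun hc i).symm⟩
    choose c hc using hc
    refine ⟨fun j => ∑ l, c l j • z l, fun i => ?_⟩
    rw [hz i]
    simp only [hc, Finset.sum_smul, Finset.smul_sum, smul_smul]
    rw [Finset.sum_comm]
    simp [mul_comm]
  · rintro ⟨y, hy⟩
    simp only [hy, sum_tmul, smul_tmul]
    rw [Finset.sum_comm]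
    simp only [← tmul_sum, sum_relation, tmul_zero, Finset.sum_const_zero]

/-- Every element of `M ⊗ Q` is a combination of a spanning family of `Q`. -/
lemma exists_sum_tmul_of_span_eq_top {α : Type*} [Fintype α] {q : α → Q}
    (hq : Submodule.span R (Set.range q) = ⊤) (x : M ⊗[R] Q) :
    ∃ m : α → M, x = ∑ i, m i ⊗ₜ[R] q i := by
  induction x with
  | zero => exact ⟨0, by simp⟩
  | tmul y z =>
    have : z ∈ Submodule.span R (Set.range q) := hq ▸ Submodule.mem_top
    obtain ⟨c, rfl⟩ := (Submodule.mem_span_range_iff_exists_fun R).1 this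
    exact ⟨fun i => c i • y, by simp [tmul_sum, smul_tmul]⟩
  | add x y hx hy =>
    obtain ⟨a, rfl⟩ := hx
    obtain ⟨b, rfl⟩ := hy
    exact ⟨a + b, by simp [add_tmul, Finset.sum_add_distrib]⟩

end Rel

variable {M N Q : Type u} [AddCommGroup M] [Module R M] [AddCommGroup N] [Module R N]
  [AddCommGroup Q] [Module R Q]

/-- Certificate of the vanishing of a tensor. -/
lemma exists_certificate {n : ℕ} (m : Fin n → M) (q : Fin n → Q)
    (h : ∑ i, m i ⊗ₜ[R] q i = 0) :
    ∃ (l k : ℕ) (q' : Fin l → Q) (a : Fin n ⊕ Fin l → Fin k → R) (y : Fin k → M),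
      (∀ i, Sum.elim m (0 : Fin l → M) i = ∑ j, a i j • y j) ∧
      ∀ j, ∑ i, a i j • Sum.elim q q' i = 0 := by
  classical
  let P : Submodule R Q := Submodule.span R (Set.range q)
  have hP : P.FG := Submodule.fg_span (Set.finite_range q)
  have hq : ∀ i, q i ∈ P := fun i => Submodule.subset_span ⟨i, rfl⟩
  let t : P ⊗[R] M := ∑ i, (⟨q i, hq i⟩ : P) ⊗ₜ[R] m i
  have ht : LinearMap.rTensor M P.subtype t = 0 := by
    have := congrArg (TensorProduct.comm R M Q) h
    simpa [t, map_sum] using this
  obtain ⟨P', hPP', hP', hz⟩ := TensorProduct.eq_zero_of_fg_of_subtype_eq_zero hP ht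
  obtain ⟨l, g, hg⟩ := Submodule.fg_iff_exists_fin_generating_family.1 hP'
  have hgP : ∀ i, g i ∈ P' := fun i => hg ▸ Submodule.subset_span ⟨i, rfl⟩
  let G : Fin n ⊕ Fin l → P' :=
    Sum.elim (fun i => ⟨q i, hPP' (hq i)⟩) (fun i => ⟨g i, hgP i⟩)
  have hG : Submodule.span R (Set.range G) = ⊤ := by
    apply Submodule.map_injective_of_injective P'.injective_subtype
    rw [Submodule.map_span, Submodule.map_top, Submodule.range_subtype, ← Set.range_comp]
    apply le_antisymm
    · rw [Submodule.span_le]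
      rintro _ ⟨i, rfl⟩
      exact (G i).2
    · refine hg.symm.le.trans (Submodule.span_le.2 ?_)
      rintro _ ⟨i, rfl⟩
      exact Submodule.subset_span ⟨Sum.inr i, rfl⟩
  have hzero : ∑ i, G i ⊗ₜ[R] Sum.elim m (0 : Fin l → M) i = 0 := by
    rw [map_sum] at hz
    simp only [Fintype.sum_sum_type, Sum.elim_inl, Sum.elim_inr, Pi.zero_apply, tmul_zero,
      Finset.sum_const_zero, add_zero, G]
    exact hz
  obtain ⟨k, a, y, hy, ha⟩ := vanishesTrivially_of_sum_tmul_eq_zero R hG hzero
  refine ⟨l, k, g, a, y, hy, fun j => ?_⟩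
  have h2 : ∑ i, a i j • P'.subtype (G i) = 0 := by
    have := congrArg P'.subtype (ha j)
    simpa using this
  have : ∀ i, P'.subtype (G i) = Sum.elim q g i := by
    rintro (i | i) <;> rfl
  simpa only [this] using h2

/-- A tensor killed by `f ⊗ Q` comes from one killed by `f ⊗ Q'` with `Q'` finitely presented. -/
lemma exists_rel_of_ker (f : M →ₗ[R] N) (x : M ⊗[R] Q) (hx : f.rTensor Q x = 0) :
    ∃ (Q' : Type u) (_ : AddCommGroup Q') (_ : Module R Q') (_ : Module.FinitePresentation R Q')
      (φ : Q' →ₗ[R] Q) (x' : M ⊗[R] Q'), f.rTensor Q' x' = 0 ∧ φ.lTensor M x' = x := by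
  obtain ⟨n, m, q, rfl⟩ := TensorProduct.exists_sum_tmul_eq x
  have hx' : ∑ i, f (m i) ⊗ₜ[R] q i = 0 := by simpa [map_sum] using hx
  obtain ⟨l, k, q', a, y, hy, ha⟩ := exists_certificate (fun i => f (m i)) q hx'
  refine ⟨Rel a, inferInstance, inferInstance, inferInstance, liftRel a _ ha,
    ∑ i, Sum.elim m (0 : Fin l → M) i ⊗ₜ[R] gen a i, ?_, ?_⟩
  · rw [map_sum]
    simp only [LinearMap.rTensor_tmul]
    rw [sum_tmul_gen_eq_zero_iff]
    refine ⟨y, fun i => ?_⟩
    rw [← hy i]
    rcases i with i | i <;> simp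
  · simp [map_sum, liftRel_gen, Fintype.sum_sum_type]

/-- A linear map killing a tensor does so through a finitely presented module. -/
lemma exists_factor_of_ker {P : Type u} [AddCommGroup P] [Module R P]
    [Module.FinitePresentation R P] (f : P →ₗ[R] M) (x : P ⊗[R] Q) (hx : f.rTensor Q x = 0) :
    ∃ (P' : Type u) (_ : AddCommGroup P') (_ : Module R P') (_ : Module.FinitePresentation R P')
      (g : P →ₗ[R] P') (h : P' →ₗ[R] M), f = h ∘ₗ g ∧ g.rTensor Q x = 0 := by
  classical
  obtain ⟨n, p, q, rfl⟩ := TensorProduct.exists_sum_tmul_eq x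
  have hx' : ∑ i, f (p i) ⊗ₜ[R] q i = 0 := by simpa [map_sum] using hx
  obtain ⟨l, k, q', a, y, hy, ha⟩ := exists_certificate (fun i => f (p i)) q hx'
  let rel : Fin n ⊕ Fin l → P × (Fin k → R) :=
    fun i => (Sum.elim p (0 : Fin l → P) i, -(a i))
  let K : Submodule R (P × (Fin k → R)) := Submodule.span R (Set.range rel)
  have : Module.FinitePresentation R ((P × (Fin k → R)) ⧸ K) :=
    Module.finitePresentation_of_surjective _ (Submodule.mkQ_surjective _)
      (by rw [Submodule.ker_mkQ]; exact Submodule.fg_span (Set.finite_range _))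
  refine ⟨_, inferInstance, inferInstance, this, K.mkQ ∘ₗ LinearMap.inl R P (Fin k → R),
    K.liftQ (f.coprod (Fintype.linearCombination R y)) ?_, ?_, ?_⟩
  · rw [Submodule.span_le]
    rintro _ ⟨i, rfl⟩
    have := hy i
    rcases i with i | i <;>
      simp_all [rel, Fintype.linearCombination_apply]
  · ext z
    simp
  · rw [map_sum]
    simp only [LinearMap.rTensor_tmul]
    have key : ∀ i, (K.mkQ ∘ₗ LinearMap.inl R P (Fin k → R)) (Sum.elim p (0 : Fin l → P) i) =
        ∑ j, a i j • K.mkQ ((0 : P), Pi.single j (1 : R)) := by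
      intro i
      have hK : rel i ∈ K := Submodule.subset_span ⟨i, rfl⟩
      simp only [LinearMap.comp_apply, ← map_smul, ← map_sum]
      rw [← sub_eq_zero, ← map_sub, Submodule.mkQ_apply, Submodule.Quotient.mk_eq_zero]
      convert hK using 1
      ext j
      · simp [rel, Prod.fst_sum]
      · simp [rel, Prod.snd_sum, Finset.sum_apply, Pi.single_apply]
    calc ∑ i, (K.mkQ ∘ₗ LinearMap.inl R P (Fin k → R)) (p i) ⊗ₜ[R] q i
        = ∑ i, (K.mkQ ∘ₗ LinearMap.inl R P (Fin k → R)) (Sum.elim p (0 : Fin l → P) i)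
            ⊗ₜ[R] Sum.elim q q' i := by
          simp only [Fintype.sum_sum_type, Sum.elim_inl, Sum.elim_inr, Pi.zero_apply, map_zero,
            zero_tmul, Finset.sum_const_zero, add_zero]
      _ = ∑ i, (∑ j, a i j • K.mkQ ((0 : P), Pi.single j (1 : R))) ⊗ₜ[R] Sum.elim q q' i := by
          simp only [key]
      _ = 0 := by
          simp only [sum_tmul, smul_tmul]
          rw [Finset.sum_comm]
          simp only [← tmul_sum, ha, tmul_zero, Finset.sum_const_zero]

section UI

variable {P : Type u} [AddCommGroup P] [Module R P] {f : M →ₗ[R] N}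

lemma ui_iff : CAlgX.UniversallyInjective R f ↔
    ∀ (Q : Type u) [AddCommGroup Q] [Module R Q] (x : M ⊗[R] Q), f.rTensor Q x = 0 → x = 0 := by
  simp only [CAlgX.UniversallyInjective, injective_iff_map_eq_zero]

lemma ui_of_finitePresentation (h : ∀ (Q : Type u) [AddCommGroup Q] [Module R Q],
    Module.FinitePresentation R Q → Function.Injective (f.rTensor Q)) :
    CAlgX.UniversallyInjective R f := by
  rw [ui_iff]
  intro Q _ _ x hx
  obtain ⟨Q', _, _, hfp, φ, x', h0, rfl⟩ := exists_rel_of_ker f x hx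
  rw [(injective_iff_map_eq_zero _).1 (h Q' hfp) x' h0, map_zero]

lemma ui_injective (hf : CAlgX.UniversallyInjective R f) : Function.Injective f := by
  intro a b hab
  have := hf R (show f.rTensor R (a ⊗ₜ 1) = f.rTensor R (b ⊗ₜ 1) by simp [hab])
  simpa using congrArg (TensorProduct.rid R M) this

lemma ui_equational (hf : CAlgX.UniversallyInjective R f) {ι κ : Type} [Fintype ι] [Fintype κ]
    (a : ι → κ → R) (x : ι → M) (y : κ → N) (h : ∀ i, f (x i) = ∑ j, a i j • y j) :
    ∃ z : κ → M, ∀ i, x i = ∑ j, a i j • z j := by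
  rw [← sum_tmul_gen_eq_zero_iff a]
  apply (injective_iff_map_eq_zero _).1 (hf (Rel a))
  rw [map_sum]
  simp only [LinearMap.rTensor_tmul]
  exact (sum_tmul_gen_eq_zero_iff a _).2 ⟨y, h⟩

lemma ui_of_equational (h : ∀ (n m : ℕ) (x : Fin n → M) (y : Fin m → N)
    (a : Fin n → Fin m → R), (∀ i, f (x i) = ∑ j, a i j • y j) →
      ∃ z : Fin m → M, ∀ i, x i = ∑ j, a i j • z j) : CAlgX.UniversallyInjective R f := by
  refine ui_of_finitePresentation fun Q _ _ _ => (injective_iff_map_eq_zero _).2 fun x hx => ?_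
  obtain ⟨n, m, e, s, hs, hex⟩ := Module.FinitePresentation.exists_fin' R Q
  classical
  let a : Fin n → Fin m → R := fun i j => s (Pi.single j 1) i
  have hspan : relSub a = LinearMap.range s := by
    rw [LinearMap.range_eq_map, ← (Pi.basisFun R (Fin m)).span_eq, Submodule.map_span,
      ← Set.range_comp, relSub]
    congr 1
    congr 1
    funext j
    ext i
    simp [a, Pi.basisFun_apply]
  have hker : relSub a = LinearMap.ker e := by
    rw [hspan, hex.linearMap_ker_eq]
  let E : Rel a ≃ₗ[R] Q :=
    (Submodule.quotEquivOfEq _ _ hker).trans (LinearMap.quotKerEquivOfSurjective e hs)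
  obtain ⟨x', rfl⟩ : ∃ x' : M ⊗[R] Rel a, E.toLinearMap.lTensor M x' = x :=
    LinearMap.lTensor_surjective M E.surjective x
  obtain ⟨c, rfl⟩ := exists_sum_tmul_of_span_eq_top (span_gen a) x'
  have hx0 : f.rTensor (Rel a) (∑ i, c i ⊗ₜ gen a i) = 0 := by
    apply (E.lTensor N).injective
    rw [map_zero]
    refine Eq.trans ?_ hx
    simp [map_sum]
  simp only [map_sum, LinearMap.rTensor_tmul] at hx0
  obtain ⟨y, hy⟩ := (sum_tmul_gen_eq_zero_iff a _).1 hx0
  rw [(sum_tmul_gen_eq_zero_iff a c).2 (h n m c y a hy), map_zero]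

lemma ui_comp {g : N →ₗ[R] P} (hg : CAlgX.UniversallyInjective R g)
    (hf : CAlgX.UniversallyInjective R f) : CAlgX.UniversallyInjective R (g ∘ₗ f) := by
  intro Q _ _
  rw [LinearMap.rTensor_comp]
  exact (hg Q).comp (hf Q)

lemma ui_of_comp {g : N →ₗ[R] P} (h : CAlgX.UniversallyInjective R (g ∘ₗ f)) :
    CAlgX.UniversallyInjective R f := by
  intro Q _ _
  have := h Q
  rw [LinearMap.rTensor_comp, LinearMap.coe_comp] at this
  exact this.of_comp

lemma ui_of_leftInverse (g : N →ₗ[R] M) (h : g ∘ₗ f = LinearMap.id) :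
    CAlgX.UniversallyInjective R f := by
  apply ui_of_comp (g := g)
  rw [h]
  intro Q _ _
  rw [LinearMap.rTensor_id]
  exact Function.injective_id

lemma ui_of_linearEquiv (e : M ≃ₗ[R] N) : CAlgX.UniversallyInjective R e.toLinearMap :=
  ui_of_leftInverse e.symm.toLinearMap (by ext; simp)

lemma ui_lTensor (hf : CAlgX.UniversallyInjective R f) (Q : Type u) [AddCommGroup Q]
    [Module R Q] : Function.Injective (f.lTensor Q) :=
  (LinearMap.lTensor_inj_iff_rTensor_inj Q f).2 (hf Q)

/-- Products of universally injective maps are universally injective. -/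
lemma ui_piMap {α : Type u} {A B : α → Type u} [∀ i, AddCommGroup (A i)] [∀ i, Module R (A i)]
    [∀ i, AddCommGroup (B i)] [∀ i, Module R (B i)] (F : ∀ i, A i →ₗ[R] B i)
    (hF : ∀ i, CAlgX.UniversallyInjective R (F i)) :
    CAlgX.UniversallyInjective R (LinearMap.pi fun i => F i ∘ₗ LinearMap.proj i) := by
  refine ui_of_equational fun n m x y a h => ?_
  have : ∀ s, ∃ z : Fin m → A s, ∀ i, x i s = ∑ j, a i j • z j := fun s =>
    ui_equational (hF s) a (fun i => x i s) (fun j => y j s) fun i => by
      simpa [Finset.sum_apply] using congrFun (h i) s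
  choose z hz using this
  exact ⟨fun j s => z s j, fun i => funext fun s => by simpa [Finset.sum_apply] using hz s i⟩

end UI

end Groth.MLMod
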