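import Groth.Prelude.Def_Found
import Mathlib.Algebra.DirectSum.Module
import Mathlib.LinearAlgebra.Projection
import Mathlib.Order.CompactlyGenerated.Basic

/-!
# Countably generated submodules, and Kaplansky's theorem
-/

namespace Groth.MLMod

universe u

open CAlg

variable {R : Type u} [CommRing R] {M : Type u} [AddCommGroup M] [Module R M]

/-- A countably generated submodule. -/
def SubCG (N : Submodule R M) : Prop := ∃ s : Set M, s.Countable ∧ Submodule.span R s = N

lemma subCG_iff {N : Submodule R M} : SubCG N ↔ IsCountablyGenerated R N := by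
  constructor
  · rintro ⟨s, hs, rfl⟩
    refine ⟨Subtype.val ⁻¹' s, hs.preimage Subtype.val_injective, ?_⟩
    exact Submodule.span_span_coe_preimage
  · rintro ⟨s, hs, hspan⟩
    refine ⟨N.subtype '' s, hs.image _, ?_⟩
    rw [Submodule.span_image, hspan, Submodule.map_top, Submodule.range_subtype]

lemma SubCG.map {M' : Type u} [AddCommGroup M'] [Module R M'] {N : Submodule R M} (h : SubCG N)
    (f : M →ₗ[R] M') : SubCG (N.map f) := by
  obtain ⟨s, hs, rfl⟩ := h
  exact ⟨f '' s, hs.image _, by rw [Submodule.span_image]⟩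

lemma SubCG.biSup {α : Type*} {J : Set α} (hJ : J.Countable) {N : α → Submodule R M}
    (h : ∀ i ∈ J, SubCG (N i)) : SubCG (⨆ i ∈ J, N i) := by
  choose s hs hspan using h
  refine ⟨⋃ i : J, s i.1 i.2, ?_, ?_⟩
  · haveI := hJ.to_subtype
    exact Set.countable_iUnion fun i => hs i.1 i.2
  · rw [Submodule.span_iUnion, iSup_subtype']
    simp [hspan]

section Indep

lemma sSupIndep_insert_of_disjoint {L : Set (Submodule R M)} (hL : sSupIndep L)
    {C : Submodule R M} (h : Disjoint C (sSup L)) : sSupIndep (insert C L) := by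
  intro a ha
  rcases Set.mem_insert_iff.1 ha with rfl | haL
  · refine h.mono_right (sSup_le_sSup ?_)
    rintro x ⟨hx1, hx2⟩
    exact (Set.mem_insert_iff.1 hx1).resolve_left hx2
  · have hsplit : sSup L = a ⊔ sSup (L \ {a}) := by
      rw [← sSup_insert, Set.insert_diff_singleton, Set.insert_eq_of_mem haL]
    have h1 : Disjoint a (sSup (L \ {a}) ⊔ C) := by
      refine (hL haL).disjoint_sup_right_of_disjoint_sup_left ?_
      rw [← hsplit]
      exact h.symm
    refine h1.mono_right (sSup_le ?_)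
    rintro x ⟨hx1, hx2⟩
    rcases Set.mem_insert_iff.1 hx1 with rfl | hxL
    · exact le_sup_right
    · exact le_sup_of_le_left (le_sSup ⟨hxL, hx2⟩)

lemma isInternal_of_sSupIndep {L : Set (Submodule R M)} [DecidableEq L] (hL : sSupIndep L) (htop : sSup L = ⊤) :
    DirectSum.IsInternal fun l : L => l.1 := by
  rw [DirectSum.isInternal_submodule_iff_iSupIndep_and_iSup_eq_top]
  exact ⟨(sSupIndep_iff _).1 hL, by rw [← htop, sSup_eq_iSup']⟩

end Indep

/-- A countable set closed under a countable relation. -/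
lemma exists_countable_closure {α : Type*} (T : α → Set α) (hT : ∀ a, (T a).Countable)
    {J₀ : Set α} (hJ₀ : J₀.Countable) :
    ∃ J : Set α, J.Countable ∧ J₀ ⊆ J ∧ ∀ a ∈ J, T a ⊆ J := by
  let step : ℕ → Set α := fun n => Nat.rec J₀ (fun _ J => J ∪ ⋃ a ∈ J, T a) n
  have hc : ∀ n, (step n).Countable := fun n => by
    induction n with
    | zero => exact hJ₀
    | succ n ih => exact ih.union (ih.biUnion fun a _ => hT a)
  refine ⟨⋃ n, step n, Set.countable_iUnion hc, Set.subset_iUnion step 0, fun a ha => ?_⟩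
  obtain ⟨n, hn⟩ := Set.mem_iUnion.1 ha
  exact (Set.subset_biUnion_of_mem (u := T) hn).trans
    ((Set.subset_union_right).trans (Set.subset_iUnion step (n + 1)))

variable {ι : Type u} {N : ι → Submodule R M}

lemma exists_countable_support (htop : ⨆ i, N i = ⊤) {X : Submodule R M} (hX : SubCG X) :
    ∃ J : Set ι, J.Countable ∧ X ≤ ⨆ i ∈ J, N i := by
  obtain ⟨s, hs, rfl⟩ := hX
  have : ∀ x : M, ∃ t : Finset ι, x ∈ ⨆ i ∈ t, N i := fun x =>
    Submodule.exists_finset_of_mem_iSup N (htop ▸ Submodule.mem_top)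
  choose t ht using this
  refine ⟨⋃ x ∈ s, ↑(t x), hs.biUnion fun x _ => (t x).countable_toSet, Submodule.span_le.2 ?_⟩
  intro x hx
  have hle : (⨆ i ∈ t x, N i) ≤ ⨆ i ∈ (⋃ x ∈ s, ↑(t x) : Set ι), N i :=
    biSup_mono fun i hi => Set.mem_biUnion hx hi
  exact hle (ht x)

/-- Kaplansky: a summand of a direct sum of countably generated modules is such a sum. -/
theorem kaplansky (hN : iSupIndep N) (htop : ⨆ i, N i = ⊤) (hc : ∀ i, SubCG (N i))
    (e : M →ₗ[R] M) (he : ∀ x, e (e x) = e x) :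
    ∃ L : Set (Submodule R M), sSupIndep L ∧ sSup L = LinearMap.range e ∧ ∀ l ∈ L, SubCG l := by
  let MI : Set ι → Submodule R M := fun I => ⨆ i ∈ I, N i
  let S : Set (Set ι × Set (Submodule R M)) :=
    {p | (MI p.1).map e ≤ MI p.1 ∧ sSupIndep p.2 ∧ sSup p.2 = (MI p.1).map e ∧
      ∀ l ∈ p.2, SubCG l}
  obtain ⟨⟨I, L⟩, ⟨hstab, hind, hsup, hcg⟩, hmax⟩ : ∃ m, Maximal (· ∈ S) m := by
    refine zorn_le₀ S fun c hcS hchain => ?_
    refine ⟨(⋃ p ∈ c, p.1, ⋃ p ∈ c, p.2), ⟨?_, ?_, ?_, ?_⟩, fun p hp =>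
      ⟨fun x hx => Set.mem_biUnion hp hx, fun x hx => Set.mem_biUnion hp hx⟩⟩
    · show (MI (⋃ p ∈ c, p.1)).map e ≤ MI (⋃ p ∈ c, p.1)
      simp only [MI, Set.mem_iUnion, exists_prop, Submodule.map_iSup, iSup_le_iff]
      rintro i ⟨p, hp, hi⟩
      calc (N i).map e ≤ (MI p.1).map e := Submodule.map_mono (le_biSup N hi)
        _ ≤ MI p.1 := (hcS hp).1
        _ ≤ _ := biSup_mono fun j hj => ⟨p, hp, hj⟩
    · show sSupIndep (⋃ p ∈ c, p.2)
      rw [← Set.sUnion_image Prod.snd c]
      refine iSupIndep_sUnion_of_directed ?_ ?_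
      · exact (hchain.image_of_map_rel (fun a b : Set ι × Set (Submodule R M) => a ≤ b) (fun a b : Set (Submodule R M) => a ⊆ b) Prod.snd
          fun a b hab => hab.2).directedOn
      · rintro _ ⟨p, hp, rfl⟩
        exact (hcS hp).2.1
    · show sSup (⋃ p ∈ c, p.2) = (MI (⋃ p ∈ c, p.1)).map e
      simp only [MI, Submodule.map_iSup]
      rw [sSup_eq_iSup, iSup_iUnion, iSup_iUnion]
      refine iSup_congr fun p => ?_
      rw [iSup_iUnion, iSup_iUnion]
      refine iSup_congr fun hp => ?_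
      rw [← sSup_eq_iSup, (hcS hp).2.2.1]
      simp only [MI, Submodule.map_iSup]
    · intro l hl
      obtain ⟨p, hp, hl'⟩ := Set.mem_iUnion₂.1 hl
      exact (hcS hp).2.2.2 l hl'
  refine ⟨L, hind, ?_, hcg⟩
  suffices hI : I = Set.univ by
    rw [hsup, hI]
    simp only [MI, iSup_univ, htop, Submodule.map_top]
  by_contra hne
  obtain ⟨i₀, hi₀⟩ := (Set.ne_univ_iff_exists_notMem I).1 hne
  have hsupp := fun i => exists_countable_support htop ((hc i).map e)
  choose T hTc hT using hsupp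
  obtain ⟨J, hJc, hJ₀, hJ⟩ := exists_countable_closure T hTc (Set.countable_singleton i₀)
  let I' := I ∪ J
  have hMI' : MI I' = MI I ⊔ MI J := iSup_union
  have hJstab : (MI J).map e ≤ MI J := by
    simp only [MI, Submodule.map_iSup, iSup_le_iff]
    intro i hi
    exact (hT i).trans (biSup_mono fun j hj => hJ i hi hj)
  have hcompl : IsCompl (MI I) (MI Iᶜ) := by
    refine ⟨hN.disjoint_biSup_biSup disjoint_compl_right, ?_⟩
    rw [codisjoint_iff, ← iSup_union, Set.union_compl_self, iSup_univ, htop]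
  let q : M →ₗ[R] M := Submodule.projection _ _ hcompl
  have hq1 : ∀ x ∈ MI I, q x = x := fun x hx => Submodule.projection_apply_left hcompl ⟨x, hx⟩
  have hq2 : ∀ x, q x ∈ MI I := fun x => Submodule.projection_apply_mem hcompl x
  let ρ : M →ₗ[R] M := e ∘ₗ q
  have hρ1 : ∀ x ∈ (MI I).map e, ρ x = x := by
    rintro _ ⟨y, hy, rfl⟩
    show e (q (e y)) = e y
    rw [hq1 _ (hstab ⟨y, hy, rfl⟩), he]
  have hρ2 : ∀ x, ρ x ∈ (MI I).map e := fun x => ⟨q x, hq2 x, rfl⟩
  let C : Submodule R M := ((MI J).map e).map (LinearMap.id - ρ)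
  have hdisj : Disjoint C (sSup L) := by
    rw [hsup, disjoint_iff_inf_le]
    rintro x ⟨⟨y, hy, rfl⟩, hx2⟩
    have h1 : ρ ((LinearMap.id - ρ : M →ₗ[R] M) y) = (LinearMap.id - ρ : M →ₗ[R] M) y := hρ1 _ hx2
    have h2 : ρ ((LinearMap.id - ρ : M →ₗ[R] M) y) = 0 := by
      rw [LinearMap.sub_apply, LinearMap.id_apply, map_sub, hρ1 _ (hρ2 y), sub_self]
    rw [Submodule.mem_bot, ← h1, h2]
  have hnew : (I', insert C L) ∈ S := by
    refine ⟨?_, sSupIndep_insert_of_disjoint hind hdisj, ?_, ?_⟩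
    · show (MI I').map e ≤ MI I'
      rw [hMI', Submodule.map_sup]
      exact sup_le_sup hstab hJstab
    · show sSup (insert C L) = (MI I').map e
      rw [hMI', Submodule.map_sup, sSup_insert, hsup]
      apply le_antisymm
      · refine sup_le ?_ le_sup_left
        rintro _ ⟨y, hy, rfl⟩
        exact Submodule.sub_mem _ (Submodule.mem_sup_right hy) (Submodule.mem_sup_left (hρ2 y))
      · refine sup_le le_sup_right ?_
        intro y hy
        have hyC : (LinearMap.id - ρ : M →ₗ[R] M) y ∈ C := ⟨y, hy, rfl⟩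
        have heq : y = (LinearMap.id - ρ : M →ₗ[R] M) y + ρ y := by simp
        rw [heq]
        exact Submodule.add_mem_sup hyC (hρ2 y)
    · rintro l (rfl | hl)
      · exact ((SubCG.biSup hJc fun i _ => hc i).map e).map _
      · exact hcg l hl
  exact hi₀ ((hmax hnew ⟨Set.subset_union_left, Set.subset_insert _ _⟩).1
    (Set.mem_union_right _ (hJ₀ rfl)))

end Groth.MLMod
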