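import Mathlib.Algebra.Module.FinitePresentation
import Mathlib.RingTheory.Finiteness.Basic
import Mathlib.RingTheory.Ideal.Defs

/-!
# Coherent modules
-/

namespace Groth.MLMod

universe u

variable {R : Type u} [CommRing R]

/-- Every finitely generated submodule is finitely presented. -/
def SubCoh (R : Type u) [CommRing R] (M : Type u) [AddCommGroup M] [Module R M] : Prop :=
  ∀ N : Submodule R M, N.FG → Module.FinitePresentation R N

variable {M₁ M₂ M₃ : Type u} [AddCommGroup M₁] [Module R M₁] [AddCommGroup M₂] [Module R M₂]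
  [AddCommGroup M₃] [Module R M₃]

lemma subCoh_of_exact (f : M₁ →ₗ[R] M₂) (g : M₂ →ₗ[R] M₃) (hf : Function.Injective f)
    (hfg : LinearMap.range f = LinearMap.ker g) (h₁ : SubCoh R M₁) (h₃ : SubCoh R M₃) :
    SubCoh R M₂ := by
  intro N hN
  haveI : Module.Finite R N := Module.Finite.iff_fg.2 hN
  haveI := h₃ (N.map g) (hN.map g)
  let q : N →ₗ[R] N.map g := g.submoduleMap N
  have hq : Function.Surjective q := g.submoduleMap_surjective N
  have hker : (LinearMap.ker q).FG := Module.FinitePresentation.fg_ker q hq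
  let N₁ : Submodule R M₁ := N.comap f
  let j : N₁ →ₗ[R] LinearMap.ker q :=
    ((f ∘ₗ N₁.subtype).codRestrict N fun x => x.2).codRestrict _ fun x => by
      rw [LinearMap.mem_ker]
      apply Subtype.ext
      show g (f x.1) = 0
      exact LinearMap.mem_ker.1 (hfg.le ⟨x.1, rfl⟩)
  have hj : Function.Bijective j := by
    refine ⟨fun a b hab => Subtype.ext (hf (congrArg (fun z : LinearMap.ker q => ((z : N) : M₂)) hab)), ?_⟩
    rintro ⟨⟨x, hx⟩, hxq⟩
    obtain ⟨y, rfl⟩ : x ∈ LinearMap.range f := by
      rw [hfg, LinearMap.mem_ker]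
      exact congrArg Subtype.val (LinearMap.mem_ker.1 hxq)
    exact ⟨⟨y, hx⟩, rfl⟩
  let e := LinearEquiv.ofBijective j hj
  haveI : Module.Finite R (LinearMap.ker q) := Module.Finite.iff_fg.2 hker
  haveI : Module.Finite R N₁ := Module.Finite.equiv e.symm
  haveI := h₁ N₁ (Module.Finite.iff_fg.1 inferInstance)
  haveI : Module.FinitePresentation R (LinearMap.ker q) := Module.FinitePresentation.of_equiv e
  exact Module.finitePresentation_of_ker q hq

lemma subCoh_of_equiv (e : M₁ ≃ₗ[R] M₂) (h : SubCoh R M₁) : SubCoh R M₂ := by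
  intro N hN
  haveI := h (N.map e.symm.toLinearMap) (hN.map _)
  exact Module.FinitePresentation.of_equiv (e.symm.submoduleMap N).symm

lemma subCoh_pi (h : SubCoh R R) (n : ℕ) : SubCoh R (Fin n → R) := by
  induction n with
  | zero =>
    intro N _
    haveI : Subsingleton N := inferInstance
    infer_instance
  | succ n ih =>
    refine subCoh_of_exact (M₁ := R) (M₃ := Fin n → R) (LinearMap.single R (fun _ : Fin (n + 1) => R) 0)
      (LinearMap.funLeft R R Fin.succ) (fun a b hab => by simpa using congrFun hab 0) ?_ h ih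
    ext x
    constructor
    · rintro ⟨a, rfl⟩
      ext i
      simp [Fin.succ_ne_zero]
    · intro hx
      refine ⟨x 0, funext fun i => ?_⟩
      refine Fin.cases ?_ (fun j => ?_) i
      · simp
      · have := congrFun (LinearMap.mem_ker.1 hx) j
        simp only [LinearMap.funLeft_apply, Pi.zero_apply] at this
        simp [this, Fin.succ_ne_zero]

lemma subCoh_of_finitePresentation (h : SubCoh R R) [Module.FinitePresentation R M₁] :
    SubCoh R M₁ := by
  intro N hN
  obtain ⟨n, K, e, hK⟩ := Module.FinitePresentation.exists_fin R M₁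
  let p : (Fin n → R) →ₗ[R] M₁ := e.symm.toLinearMap ∘ₗ K.mkQ
  have hp : Function.Surjective p := e.symm.surjective.comp K.mkQ_surjective
  have hkp : LinearMap.ker p = K := by
    rw [LinearMap.ker_comp, LinearEquiv.ker, Submodule.comap_bot, Submodule.ker_mkQ]
  let N' := N.comap p
  have hN' : N'.FG := by
    refine Submodule.fg_of_fg_map_of_fg_inf_ker p ?_ ?_
    · rwa [Submodule.map_comap_eq_of_surjective hp]
    · rw [inf_eq_right.2 (LinearMap.ker_le_comap p), hkp]
      exact hK
  haveI := subCoh_pi h n N' hN'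
  let q : N' →ₗ[R] N := (p ∘ₗ N'.subtype).codRestrict N fun x => x.2
  refine Module.finitePresentation_of_surjective q ?_ ?_
  · intro y
    obtain ⟨x, hx⟩ := hp y.1
    exact ⟨⟨x, show p x ∈ N from hx ▸ y.2⟩, Subtype.ext hx⟩
  · have hk : LinearMap.ker q = K.comap N'.subtype := by
      rw [show q = (p ∘ₗ N'.subtype).codRestrict N (fun x => x.2) from rfl,
        LinearMap.ker_codRestrict, LinearMap.ker_comp, hkp]
    rw [hk]
    refine Submodule.fg_of_fg_map_injective N'.subtype N'.injective_subtype ?_
    rw [Submodule.map_comap_eq_self]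
    · exact hK
    · rw [Submodule.range_subtype, ← hkp]
      exact LinearMap.ker_le_comap p

end Groth.MLMod
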