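import Groth.Agent.MLMod.Tower
import Mathlib.LinearAlgebra.TensorProduct.DirectLimit

/-!
# Mittag-Leffler colimits of finitely presented modules
-/

namespace Groth.MLMod

universe u

open TensorProduct CAlg

variable {R : Type u} [CommRing R] {ι : Type u} [Preorder ι] [IsDirected ι (· ≤ ·)] [DecidableEq ι]
  {G : ι → Type u} [∀ i, AddCommGroup (G i)] [∀ i, Module R (G i)]
  {f : ∀ i j, i ≤ j → G i →ₗ[R] G j} [DirectedSystem G fun i j h => f i j h]

variable {P : Type u} [AddCommGroup P] [Module R P]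

lemma exists_kill [Module.Finite R P] {j : ι} (φ : P →ₗ[R] G j)
    (h : Module.DirectLimit.of R ι G f j ∘ₗ φ = 0) :
    ∃ (k : ι) (hjk : j ≤ k), f j k hjk ∘ₗ φ = 0 := by
  obtain ⟨n, p, hp⟩ := Module.Finite.exists_fin (R := R) (M := P)
  choose k hjk hk using fun i => Module.DirectLimit.of.zero_exact (LinearMap.congr_fun h (p i))
  classical
  haveI : Nonempty ι := ⟨j⟩
  obtain ⟨K, hK⟩ := Finset.exists_le (insert j (Finset.univ.image k))
  refine ⟨K, hK j (Finset.mem_insert_self _ _), LinearMap.ext_on_range hp fun i => ?_⟩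
  have hkK : k i ≤ K := hK _ (Finset.mem_insert_of_mem (Finset.mem_image_of_mem _ (Finset.mem_univ i)))
  rw [LinearMap.comp_apply, ← DirectedSystem.map_map (f := fun i j h => f i j h) (hjk i) hkK,
    LinearMap.zero_apply]
  exact (congrArg (f (k i) K hkK) (hk i)).trans (map_zero _)

lemma exists_lift_directLimit [Module.FinitePresentation R P] (i : ι)
    (h : P →ₗ[R] Module.DirectLimit G f) :
    ∃ (j : ι) (_ : i ≤ j) (h' : P →ₗ[R] G j), Module.DirectLimit.of R ι G f j ∘ₗ h' = h := by
  classical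
  haveI : Nonempty ι := ⟨i⟩
  obtain ⟨n, m, e, t, he, hte⟩ := Module.FinitePresentation.exists_fin' R P
  choose k x hx using fun l : Fin n => Module.DirectLimit.exists_of (h (e (Pi.single l 1)))
  obtain ⟨K, hK⟩ := Finset.exists_le (insert i (Finset.univ.image k))
  have hkK : ∀ l, k l ≤ K := fun l =>
    hK _ (Finset.mem_insert_of_mem (Finset.mem_image_of_mem _ (Finset.mem_univ l)))
  let L : (Fin n → R) →ₗ[R] G K := Fintype.linearCombination R fun l => f _ _ (hkK l) (x l)
  have hL : Module.DirectLimit.of R ι G f K ∘ₗ L = h ∘ₗ e := by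
    refine LinearMap.pi_ext' fun l => LinearMap.ext_ring ?_
    simp [L, Fintype.linearCombination_apply_single, hx]
  obtain ⟨j, hKj, hj⟩ := exists_kill (f := f) (L ∘ₗ t) (by
    rw [← LinearMap.comp_assoc, hL, LinearMap.comp_assoc, hte.linearMap_comp_eq_zero,
      LinearMap.comp_zero])
  have hle : LinearMap.ker e ≤ LinearMap.ker (f K j hKj ∘ₗ L) := by
    rw [hte.linearMap_ker_eq, LinearMap.range_le_ker_iff, LinearMap.comp_assoc, hj]
  refine ⟨j, (hK i (Finset.mem_insert_self _ _)).trans hKj,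
    (LinearMap.ker e).liftQ _ hle ∘ₗ (LinearMap.quotKerEquivOfSurjective e he).symm.toLinearMap,
    LinearMap.ext fun p => ?_⟩
  obtain ⟨w, rfl⟩ := he p
  have hw : (LinearMap.quotKerEquivOfSurjective e he).symm (e w) = Submodule.Quotient.mk w := by
    rw [LinearEquiv.symm_apply_eq]
    rfl
  simp only [LinearMap.comp_apply, LinearEquiv.coe_coe, hw, Submodule.liftQ_apply,
    Module.DirectLimit.of_f]
  exact LinearMap.congr_fun hL w

variable [∀ i, Module.FinitePresentation R (G i)]

/-- In a Mittag-Leffler colimit the transition maps eventually factor. -/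
lemma exists_eventually_factors (hM : IsMittagLeffler R (Module.DirectLimit G f)) (i : ι) :
    ∃ (j : ι) (hij : i ≤ j), ∀ (k : ι) (hik : i ≤ k),
      ∃ h : G k →ₗ[R] G j, f i j hij = h ∘ₗ f i k hik := by
  obtain ⟨Q, _, _, _, g, h, hfac, hdom⟩ := ml_dominate hM (Module.DirectLimit.of R ι G f i)
  obtain ⟨j₀, hij₀, h', hh'⟩ := exists_lift_directLimit i h
  obtain ⟨j, hj₀j, hj⟩ := exists_kill (f := f) (h' ∘ₗ g - f i j₀ hij₀) (by
    rw [LinearMap.comp_sub, ← LinearMap.comp_assoc, hh', ← hfac]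
    ext x
    simp)
  have hjeq : f i j (hij₀.trans hj₀j) = (f j₀ j hj₀j ∘ₗ h') ∘ₗ g := by
    rw [LinearMap.comp_sub, sub_eq_zero] at hj
    rw [LinearMap.comp_assoc, hj]
    ext x
    exact (DirectedSystem.map_map (f := fun i j h => f i j h) hij₀ hj₀j x).symm
  refine ⟨j, hij₀.trans hj₀j, fun k hik => ?_⟩
  haveI : Module.FinitePresentation R (G k ⧸ LinearMap.range (f i k hik)) :=
    Module.finitePresentation_of_surjective _ (Submodule.mkQ_surjective _)
      (by rw [Submodule.ker_mkQ, LinearMap.range_eq_map]; exact Module.Finite.fg_top.map _)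
  refine exists_factor_of_dominates (f i k hik) (f i j _) fun X _ _ y hy => ?_
  have hof : Module.DirectLimit.of R ι G f i = Module.DirectLimit.of R ι G f k ∘ₗ f i k hik := by
    ext x
    simp
  rw [hjeq, LinearMap.rTensor_comp_apply,
    hdom X y (by rw [hof, LinearMap.rTensor_comp_apply, hy, map_zero]), map_zero]

lemma ml_of_eventually_factors
    (H : ∀ i, ∃ (j : ι) (hij : i ≤ j), ∀ (k : ι) (hik : i ≤ k),
      ∃ h : G k →ₗ[R] G j, f i j hij = h ∘ₗ f i k hik) [Nonempty ι] :
    IsMittagLeffler R (Module.DirectLimit G f) := by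
  refine ml_of_dominate fun n φ => ?_
  obtain ⟨i₀⟩ := ‹Nonempty ι›
  obtain ⟨i, -, φ', hφ'⟩ := exists_lift_directLimit i₀ φ
  obtain ⟨j, hij, hfac⟩ := H i
  refine ⟨G j, inferInstance, inferInstance, inferInstance, f i j hij ∘ₗ φ', fun N _ _ =>
    ker_eq_of_factor (h := Module.DirectLimit.of R ι G f j) ?_ N fun y hy => ?_⟩
  · rw [← hφ']
    ext x
    simp
  · rw [← hφ', LinearMap.rTensor_comp_apply] at hy
    have h0 := congrArg (TensorProduct.directLimitLeft f N) hy
    rw [TensorProduct.directLimitLeft_rTensor_of, map_zero] at h0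
    obtain ⟨k, hik, hk⟩ := Module.DirectLimit.of.zero_exact h0
    obtain ⟨h, hh⟩ := hfac k hik
    rw [hh, LinearMap.comp_assoc, LinearMap.rTensor_comp_apply,
      LinearMap.rTensor_comp_apply, hk, map_zero]

end Groth.MLMod
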