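import Groth.Agent.MLMod.ML
import Mathlib.RingTheory.Flat.Basic

/-!
# Universal injectivity and flatness
-/

namespace Groth.MLMod

universe u

open TensorProduct

variable {R : Type u} [CommRing R]
variable {M₁ M₂ M₃ : Type u} [AddCommGroup M₁] [Module R M₁] [AddCommGroup M₂] [Module R M₂]
  [AddCommGroup M₃] [Module R M₃] {f : M₁ →ₗ[R] M₂} {g : M₂ →ₗ[R] M₃}

lemma eq_zero_of_rTensor_eq_zero {K F N : Type u} [AddCommGroup K] [Module R K] [AddCommGroup F]
    [Module R F] [AddCommGroup N] [Module R N] [Module.Flat R F] [Module.Flat R M₃]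
    {κ : K →ₗ[R] F} {p : F →ₗ[R] N} (hκ : Function.Injective κ) (hexK : Function.Exact κ p)
    (hp : Function.Surjective p) (hf : Function.Injective f) (hfg : Function.Exact f g)
    (hg : Function.Surjective g) (x : M₁ ⊗[R] N) (hx : f.rTensor N x = 0) : x = 0 := by
  obtain ⟨y, rfl⟩ := LinearMap.lTensor_surjective M₁ hp x
  obtain ⟨z, hz⟩ : f.rTensor F y ∈ LinearMap.range (κ.lTensor M₂) := by
    rw [← (lTensor_exact M₂ hexK hp).linearMap_ker_eq, LinearMap.mem_ker, lTensor_rTensor, hx]
  have hgz : g.rTensor K z = 0 := by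
    apply Module.Flat.lTensor_preserves_injective_linearMap (M := M₃) κ hκ
    rw [map_zero, lTensor_rTensor, hz, (rTensor_exact F hfg hg).apply_apply_eq_zero]
  obtain ⟨w, rfl⟩ := (rTensor_exact K hfg hg _).1 hgz
  have hy : y = κ.lTensor M₁ w := by
    apply Module.Flat.rTensor_preserves_injective_linearMap (M := F) f hf
    rw [← hz, lTensor_rTensor]
  rw [hy, (lTensor_exact M₁ hexK hp).apply_apply_eq_zero]

/-- A short exact sequence with flat cokernel is universally exact. -/
lemma ui_of_flat_coker (hf : Function.Injective f) (hfg : Function.Exact f g)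
    (hg : Function.Surjective g) [Module.Flat R M₃] : CAlgX.UniversallyInjective R f := by
  rw [ui_iff]
  intro N _ _ x hx
  obtain ⟨F, _, _, _, p, hp⟩ : ∃ (F : Type u) (_ : AddCommGroup F) (_ : Module R F)
      (_ : Module.Flat R F) (p : F →ₗ[R] N), Function.Surjective p :=
    ⟨N →₀ R, inferInstance, inferInstance, inferInstance, Finsupp.linearCombination R id,
      Finsupp.linearCombination_id_surjective R N⟩
  exact eq_zero_of_rTensor_eq_zero (LinearMap.ker p).injective_subtype
    (LinearMap.exact_subtype_ker_map p) hp hf hfg hg x hx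

/-- If `M₁ ⊗ R/I → M₂ ⊗ R/I` is injective for all f.g. ideals and `M₂` is flat, so is the
cokernel. -/
lemma flat_coker (hfg : Function.Exact f g) (hg : Function.Surjective g) [Module.Flat R M₂]
    (h : ∀ I : Ideal R, I.FG → Function.Injective (f.rTensor (R ⧸ I))) : Module.Flat R M₃ := by
  rw [Module.Flat.iff_rTensor_injective]
  intro I hI
  rw [injective_iff_map_eq_zero]
  intro x hx
  obtain ⟨y, rfl⟩ := LinearMap.lTensor_surjective I hg x
  obtain ⟨w, hw⟩ : I.subtype.rTensor M₂ y ∈ LinearMap.range (f.lTensor R) := by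
    rw [← (lTensor_exact R hfg hg).linearMap_ker_eq, LinearMap.mem_ker, lTensor_rTensor, hx]
  have hexI : Function.Exact I.subtype (Submodule.mkQ I) := LinearMap.exact_subtype_mkQ I
  have hw0 : (Submodule.mkQ I).rTensor M₁ w = 0 := by
    apply LinearMap.lTensor_inj_iff_rTensor_inj (R ⧸ I) f |>.2 (h I hI)
    rw [map_zero, lTensor_rTensor, hw]
    exact (rTensor_exact M₂ hexI (Submodule.mkQ_surjective I)).apply_apply_eq_zero y
  obtain ⟨t, rfl⟩ := (rTensor_exact M₁ hexI (Submodule.mkQ_surjective I) _).1 hw0
  have hy : y = f.lTensor I t := by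
    apply Module.Flat.rTensor_preserves_injective_linearMap (M := M₂) I.subtype Subtype.val_injective
    rw [← hw, lTensor_rTensor]
  rw [hy, (lTensor_exact I hfg hg).apply_apply_eq_zero]

/-- A universally injective submodule of a flat module is flat. -/
lemma flat_of_ui (hf : CAlgX.UniversallyInjective R f) [Module.Flat R M₂] : Module.Flat R M₁ := by
  rw [Module.Flat.iff_rTensor_injective]
  intro I hI
  rw [injective_iff_map_eq_zero]
  intro x hx
  apply (ui_lTensor hf I)
  apply Module.Flat.rTensor_preserves_injective_linearMap (M := M₂) I.subtype Subtype.val_injective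
  rw [map_zero, map_zero, ← lTensor_rTensor, hx, map_zero]

end Groth.MLMod
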