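import Groth.Agent.MLMod.ML
import Mathlib.RingTheory.Flat.Basic

/-!
# Smallest submodules supporting a tensor, for flat Mittag-Leffler modules
-/

namespace Groth.MLMod

universe u

open TensorProduct CAlg

variable {R : Type u} [CommRing R] {M F : Type u} [AddCommGroup M] [Module R M] [AddCommGroup F]
  [Module R F]

lemma exists_smallest [Module.Flat R M] (hM : IsMittagLeffler R M) (x : F ⊗[R] M) :
    ∃ F' : Submodule R F, F'.FG ∧ x ∈ LinearMap.range (F'.subtype.rTensor M) ∧
      ∀ F'' : Submodule R F, x ∈ LinearMap.range (F''.subtype.rTensor M) → F' ≤ F'' := by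
  let ι : Type u := {G : Submodule R F // x ∈ LinearMap.range (G.subtype.rTensor M)}
  let F' : Submodule R F := ⨅ G : ι, G.1
  let φ : F →ₗ[R] (∀ G : ι, F ⧸ G.1) := LinearMap.pi fun G => G.1.mkQ
  have hker : Function.Exact F'.subtype φ := by
    rw [LinearMap.exact_iff, Submodule.range_subtype]
    ext z
    simp [φ, F', funext_iff, Submodule.Quotient.mk_eq_zero]
  have hφx : φ.rTensor M x = 0 := by
    apply (TensorProduct.comm R (∀ G : ι, F ⧸ G.1) M).injective
    rw [map_zero]
    refine ml_eq_zero hM _ fun G => ?_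
    have h0 : G.1.mkQ.rTensor M x = 0 := by
      obtain ⟨y, hy⟩ := G.2
      refine (congrArg _ hy).symm.trans ?_
      exact (rTensor_exact M (LinearMap.exact_subtype_mkQ G.1)
        G.1.mkQ_surjective).apply_apply_eq_zero y
    have hnat : ∀ z : F ⊗[R] M, (LinearMap.proj G : (∀ G : ι, F ⧸ G.1) →ₗ[R] F ⧸ G.1).lTensor M
        (TensorProduct.comm R _ M (φ.rTensor M z)) =
          TensorProduct.comm R _ M (G.1.mkQ.rTensor M z) := by
      intro z
      induction z with
      | zero => simp
      | tmul a b => simp [φ]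
      | add a b ha hb => simp only [map_add, ha, hb]
    rw [hnat, h0, map_zero]
  have hmem : x ∈ LinearMap.range (F'.subtype.rTensor M) :=
    ((Module.Flat.rTensor_exact M hker) x).1 hφx
  refine ⟨F', ?_, hmem, fun F'' h => iInf_le (fun G : ι => G.1) ⟨F'', h⟩⟩
  obtain ⟨y, hy⟩ := hmem
  obtain ⟨P, hP, t, ht⟩ := TensorProduct.exists_of_fg y
  have hle : F' ≤ P.map F'.subtype := iInf_le (fun G : ι => G.1) ⟨P.map F'.subtype,
    ⟨(F'.subtype.submoduleMap P).rTensor M t, by
      rw [← hy, ← ht, ← LinearMap.rTensor_comp_apply, ← LinearMap.rTensor_comp_apply]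
      rfl⟩⟩
  rw [le_antisymm hle (Submodule.map_subtype_le F' P)]
  exact hP.map _

lemma ml_of_smallest [Module.Flat R M]
    (H : ∀ (n : ℕ) (x : (Fin n → R) ⊗[R] M), ∃ F' : Submodule R (Fin n → R),
      x ∈ LinearMap.range (F'.subtype.rTensor M) ∧
      ∀ F'' : Submodule R (Fin n → R), x ∈ LinearMap.range (F''.subtype.rTensor M) → F' ≤ F'') :
    IsMittagLeffler R M := by
  classical
  rw [isML_iff]
  intro ι Q _ _ x hx
  obtain ⟨n, m, q, rfl⟩ := TensorProduct.exists_sum_tmul_eq x
  let t : (Fin n → R) ⊗[R] M := ∑ i, Pi.single i 1 ⊗ₜ[R] m i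
  obtain ⟨F', ⟨s, hs⟩, hmin⟩ := H n t
  have key : ∀ a, F' ≤ LinearMap.ker (Fintype.linearCombination R fun i => q i a) := by
    intro a
    refine hmin _ ((Module.Flat.rTensor_exact M (LinearMap.exact_subtype_ker_map
      (Fintype.linearCombination R fun i => q i a))) t |>.1 ?_)
    apply (TensorProduct.comm R (Q a) M).injective
    rw [map_zero, ← hx a]
    simp [t, Fintype.linearCombination_apply_single]
  let L : (Fin n → R) →ₗ[R] ∀ a, Q a := Fintype.linearCombination R q
  have hL : L ∘ₗ F'.subtype = 0 := by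
    refine LinearMap.ext fun z => funext fun a => ?_
    have := key a z.2
    simpa [L, Fintype.linearCombination_apply, Finset.sum_apply] using this
  have h0 : L.rTensor M t = 0 := by
    rw [← hs, ← LinearMap.rTensor_comp_apply, hL, LinearMap.rTensor_zero, LinearMap.zero_apply]
  have := congrArg (TensorProduct.comm R (∀ a, Q a) M) h0
  simpa [t, L, Fintype.linearCombination_apply_single] using this

end Groth.MLMod
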