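import Groth.Agent.MLMod.ML
import Groth.Agent.MLMod.Smallest
import Groth.Agent.MLMod.Flat
import Mathlib.RingTheory.AdicCompletion.Functoriality
import Mathlib.RingTheory.Filtration

/-!
# Completions of free modules sit universally injectively in products
-/

namespace Groth.MLMod

universe u

open Submodule

variable {R : Type u} [CommRing R] (I : Ideal R) {α : Type u}

lemma finsupp_mem_smul_top_iff (J : Ideal R) (f : α →₀ R) :
    f ∈ (J • ⊤ : Submodule R (α →₀ R)) ↔ ∀ s, f s ∈ J := by
  constructor
  · intro hf s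
    refine Submodule.smul_induction_on hf (fun r hr x _ => ?_) fun x y hx hy => ?_
    · rw [Finsupp.smul_apply, smul_eq_mul]
      exact J.mul_mem_right _ hr
    · rw [Finsupp.add_apply]
      exact J.add_mem hx hy
  · intro h
    rw [← Finsupp.sum_single f]
    refine Submodule.sum_mem _ fun s _ => ?_
    rw [show Finsupp.single s (f s) = f s • Finsupp.single s (1 : R) by
      rw [Finsupp.smul_single', mul_one]]
    exact Submodule.smul_mem_smul (h s) Submodule.mem_top

lemma fun_mem_smul_top_iff {n : Type*} [Fintype n] (J : Ideal R) (f : n → R) :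
    f ∈ (J • ⊤ : Submodule R (n → R)) ↔ ∀ s, f s ∈ J := by
  classical
  constructor
  · intro hf s
    refine Submodule.smul_induction_on hf (fun r hr x _ => ?_) fun x y hx hy => ?_
    · rw [Pi.smul_apply, smul_eq_mul]
      exact J.mul_mem_right _ hr
    · rw [Pi.add_apply]
      exact J.add_mem hx hy
  · intro h
    rw [pi_eq_sum_univ' f]
    exact Submodule.sum_mem _ fun s _ => Submodule.smul_mem_smul (h s) Submodule.mem_top

lemma ideal_smul_top (J : Ideal R) : (J • ⊤ : Submodule R R) = J := by
  rw [smul_eq_mul, Ideal.mul_top]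

lemma eq_zero_of_forall_mem_pow [IsHausdorff I R] {r : R} (h : ∀ N : ℕ, r ∈ I ^ N) : r = 0 :=
  IsHausdorff.haus' (I := I) r fun N => by
    rw [SModEq.zero, ideal_smul_top]
    exact h N

/-- Coordinates of the completion of a free module. -/
noncomputable def coord (s : α) :
    AdicCompletion I (α →₀ R) →ₗ[R] AdicCompletion I R :=
  (AdicCompletion.map I (Finsupp.lapply s : (α →₀ R) →ₗ[R] R)).restrictScalars R

lemma coord_val_mk (s : α) (x : AdicCompletion I (α →₀ R)) (k : ℕ) (f : α →₀ R)
    (hf : Submodule.Quotient.mk f = x.val k) :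
    (coord I s x).val k = Submodule.Quotient.mk (f s) := by
  show (AdicCompletion.map I (Finsupp.lapply s : (α →₀ R) →ₗ[R] R) x).val k = _
  rw [AdicCompletion.map_val_apply, ← hf, LinearMap.reduceModIdeal_apply]
  rfl

lemma coord_injective {x : AdicCompletion I (α →₀ R)} (h : ∀ s, coord I s x = 0) : x = 0 := by
  refine AdicCompletion.ext fun k => ?_
  obtain ⟨f, hf⟩ := Submodule.Quotient.mk_surjective _ (x.val k)
  rw [AdicCompletion.val_zero_apply, ← hf, Submodule.Quotient.mk_eq_zero, finsupp_mem_smul_top_iff]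
  intro s
  have := coord_val_mk I s x k f hf
  rw [h s, AdicCompletion.val_zero_apply, eq_comm, Submodule.Quotient.mk_eq_zero,
    ideal_smul_top] at this
  exact this

/-- An element of the completion of the free module has coordinates tending to zero. -/
lemma coord_finite (x : AdicCompletion I (α →₀ R)) (z : α → R)
    (hz : ∀ s, coord I s x = AdicCompletion.of I R (z s)) (k : ℕ) : {s | z s ∉ I ^ k}.Finite := by
  obtain ⟨f, hf⟩ := Submodule.Quotient.mk_surjective _ (x.val k)
  refine f.support.finite_toSet.subset fun s hs => ?_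
  rw [Finset.mem_coe, Finsupp.mem_support_iff]
  intro h0
  have := coord_val_mk I s x k f hf
  rw [hz s, AdicCompletion.of_apply, h0, Submodule.mkQ_apply, Submodule.Quotient.eq, sub_zero,
    ideal_smul_top] at this
  exact hs this

/-- Null families give elements of the completion. -/
lemma exists_coord_eq (z : α → R) (hz : ∀ k : ℕ, {s | z s ∉ I ^ k}.Finite) :
    ∃ x : AdicCompletion I (α →₀ R), ∀ s, coord I s x = AdicCompletion.of I R (z s) := by
  classical
  let f : ℕ → (α →₀ R) := fun k => ∑ s ∈ (hz k).toFinset, Finsupp.single s (z s)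
  have hf : ∀ k s, f k s = if z s ∈ I ^ k then 0 else z s := by
    intro k s
    simp only [f, Finsupp.coe_finset_sum, Finset.sum_apply, Finsupp.single_apply,
      Finset.sum_ite_eq', Set.Finite.mem_toFinset, Set.mem_ofPred_eq]
    split <;> rename_i h <;> simp [h]
  have hdiff : ∀ k s, f k s - z s ∈ I ^ k := by
    intro k s
    rw [hf]
    split <;> rename_i h <;> simp [h]
  have hcompat : ∀ {m n : ℕ} (hmn : m ≤ n), AdicCompletion.transitionMap I (α →₀ R) hmn
      (Submodule.Quotient.mk (f n)) = Submodule.Quotient.mk (f m) := by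
    intro m n hmn
    show Submodule.Quotient.mk (f n) = Submodule.Quotient.mk (f m)
    rw [Submodule.Quotient.eq, finsupp_mem_smul_top_iff]
    intro s
    rw [Finsupp.sub_apply, show f n s - f m s = (f n s - z s) - (f m s - z s) by ring]
    exact Ideal.sub_mem _ (Ideal.pow_le_pow_right hmn (hdiff n s)) (hdiff m s)
  let x : AdicCompletion I (α →₀ R) := ⟨fun k => Submodule.Quotient.mk (f k), hcompat⟩
  refine ⟨x, fun s => ?_⟩
  · refine AdicCompletion.ext fun k => ?_
    have hx : Submodule.Quotient.mk (f k) = x.val k := rfl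
    rw [coord_val_mk I s x k (f k) hx, AdicCompletion.of_apply, Submodule.mkQ_apply,
      Submodule.Quotient.eq, ideal_smul_top]
    exact hdiff k s

variable [IsNoetherianRing R] [IsAdicComplete I R]

/-- Preimages under a matrix can be chosen small. -/
lemma exists_small_preimage {n m : ℕ} (A : (Fin m → R) →ₗ[R] (Fin n → R)) :
    ∃ k : ℕ, ∀ v ∈ LinearMap.range A, ∃ z, A z = v ∧
      ∀ N : ℕ, (∀ i, v i ∈ I ^ (N + k)) → ∀ j, z j ∈ I ^ N := by
  classical
  obtain ⟨k, hk⟩ := I.exists_pow_inf_eq_pow_smul (LinearMap.range A)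
  refine ⟨k, fun v hv => ?_⟩
  have hlift : ∀ N : ℕ, (∀ i, v i ∈ I ^ (N + k)) → ∃ z, A z = v ∧ ∀ j, z j ∈ I ^ N := by
    intro N hN
    have h1 : v ∈ I ^ (N + k) • ⊤ ⊓ LinearMap.range A :=
      ⟨(fun_mem_smul_top_iff _ _).2 hN, hv⟩
    rw [hk (N + k) (Nat.le_add_left _ _), Nat.add_sub_cancel] at h1
    have h2 : v ∈ (I ^ N • ⊤ : Submodule R (Fin m → R)).map A := by
      rw [Submodule.map_smul'', Submodule.map_top]
      exact Submodule.smul_mono le_rfl inf_le_right h1
    obtain ⟨z, hz, rfl⟩ := h2
    exact ⟨z, rfl, (fun_mem_smul_top_iff _ _).1 hz⟩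
  by_cases hv0 : ∀ N i, v i ∈ I ^ N
  · refine ⟨0, ?_, fun N _ j => Submodule.zero_mem _⟩
    rw [map_zero]
    exact funext fun i => (eq_zero_of_forall_mem_pow I fun N => hv0 N i).symm
  · push Not at hv0
    obtain ⟨N₀, i, hi⟩ := hv0
    have hex : ∃ N, ¬ ∀ i, v i ∈ I ^ (N + k) :=
      ⟨N₀, fun h => hi (Ideal.pow_le_pow_right (Nat.le_add_right _ _) (h i))⟩
    rcases Nat.eq_zero_or_pos (Nat.find hex) with h0 | hpos
    · obtain ⟨z, hz⟩ := hv
      refine ⟨z, hz, fun N hN => ?_⟩
      have := Nat.find_spec hex
      rw [h0] at this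
      exact absurd (fun i => Ideal.pow_le_pow_right (by omega) (hN i)) this
    · obtain ⟨z, hz, hzm⟩ := hlift (Nat.find hex - 1)
        (not_not.1 (Nat.find_min hex (by omega)))
      refine ⟨z, hz, fun N hN j => Ideal.pow_le_pow_right ?_ (hzm j)⟩
      by_contra hlt
      exact Nat.find_spec hex fun i => Ideal.pow_le_pow_right (by omega) (hN i)

/-- The completion of a free module is universally injective in the product. -/
theorem ui_completion_to_pi :
    CAlgX.UniversallyInjective R
      (LinearMap.pi fun s : α => coord (α := α) I s) := by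
  classical
  refine ui_of_equational fun n m x y a h => ?_
  let e := AdicCompletion.ofLinearEquiv I R
  let A : (Fin m → R) →ₗ[R] (Fin n → R) :=
    LinearMap.pi fun i => ∑ j, a i j • LinearMap.proj j
  let v : α → Fin n → R := fun s i => e.symm (coord I s (x i))
  have hv : ∀ s, v s ∈ LinearMap.range A := by
    intro s
    refine ⟨fun j => e.symm (y j s), funext fun i => ?_⟩
    have := congrArg e.symm (congrFun (h i) s)
    simpa [A, v, map_sum] using this.symm
  obtain ⟨k, hk⟩ := exists_small_preimage I A
  choose z hz hzN using fun s => hk (v s) (hv s)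
  have hxv : ∀ i s, coord I s (x i) = AdicCompletion.of I R (v s i) := fun i s =>
    (AdicCompletion.of_ofLinearEquiv_symm I _).symm
  have hnull : ∀ j N, {s | z s j ∉ I ^ N}.Finite := by
    intro j N
    refine (Set.finite_iUnion fun i => coord_finite I (x i) (fun s => v s i) (hxv i) (N + k)).subset
      fun s hs => Set.mem_iUnion.2 ?_
    by_contra hcon
    push Not at hcon
    exact hs (hzN s N (fun i => not_not.1 (hcon i)) j)
  choose Z hZ using fun j => exists_coord_eq I (fun s => z s j) (hnull j)
  refine ⟨Z, fun i => ?_⟩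
  rw [← sub_eq_zero]
  refine coord_injective I fun s => ?_
  rw [map_sub, map_sum, hxv, sub_eq_zero]
  rw [← congrFun (hz s) i]
  simp [A, hZ, map_sum]
  simp only [← smul_eq_mul, map_smul]

/-- The completion of a free module is flat and Mittag-Leffler. -/
theorem flat_and_ml_completion_finsupp (hflat : Module.Flat R (α → R))
    (hml : CAlg.IsMittagLeffler R (α → R)) :
    Module.Flat R (AdicCompletion I (α →₀ R)) ∧
      CAlg.IsMittagLeffler R (AdicCompletion I (α →₀ R)) := by
  have e : (α → R) ≃ₗ[R] (α → AdicCompletion I R) :=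
    LinearEquiv.piCongrRight fun _ => AdicCompletion.ofLinearEquiv I R
  haveI : Module.Flat R (α → AdicCompletion I R) := Module.Flat.of_linearEquiv e.symm
  exact ⟨flat_of_ui (ui_completion_to_pi I),
    ml_of_ui (ui_completion_to_pi I) (ml_of_equiv e.symm hml)⟩

end Groth.MLMod
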