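import Groth.Agent.MLMod.LiftProjective
import Groth.Agent.MLMod.Completion
import Mathlib.RingTheory.Flat.Stability

/-!
# Completions of flat modules with projective reduction are summands of completed free modules
-/

namespace Groth.MLMod

universe u

open TensorProduct

variable {R : Type u} [CommRing R] (I : Ideal R) {M : Type u} [AddCommGroup M] [Module R M]

/-- `J ^ n = 0` in `R ⧸ I ^ n`. -/
lemma isNilpotent_map_pow (n : ℕ) : IsNilpotent (I.map (Ideal.Quotient.mk (I ^ n))) := by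
  refine ⟨n, ?_⟩
  rw [← Ideal.map_pow, Ideal.map_quotient_self]
  rfl

/-- `M ⧸ Iⁿ M` is flat over `R ⧸ Iⁿ`. -/
lemma flat_quotient_pow [Module.Flat R M] (n : ℕ) :
    Module.Flat (R ⧸ I ^ n) (M ⧸ (I ^ n • ⊤ : Submodule R M)) :=
  Module.Flat.of_linearEquiv
    (LinearEquiv.extendScalarsOfSurjective (S := R ⧸ I ^ n) Ideal.Quotient.mk_surjective
      (quotTensorEquivQuotSMul M (I ^ n))).symm

variable {F : Type u} [AddCommGroup F] [Module R F]

/-- The induced map on the `n`-th truncations. -/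
abbrev trunc (f : M →ₗ[R] F) (n : ℕ) :
    (M ⧸ (I ^ n • ⊤ : Submodule R M)) →ₗ[R] F ⧸ (I ^ n • ⊤ : Submodule R F) :=
  Submodule.mapQ _ _ f (map_smul_top_le (I ^ n) f)

lemma ker_of_le_smul {m n : ℕ} (hmn : m ≤ n) (f : M →ₗ[R] F ⧸ (I ^ m • ⊤ : Submodule R F)) :
    (I ^ n • ⊤ : Submodule R M) ≤ LinearMap.ker f := by
  rw [← Submodule.comap_bot]
  refine (map_smul_top_le _ f).trans (Submodule.comap_mono ?_)
  refine (Submodule.smul_mono (Ideal.pow_le_pow_right hmn) le_rfl).trans ?_
  rw [Submodule.smul_le]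
  intro r hr z _
  obtain ⟨w, rfl⟩ := Submodule.Quotient.mk_surjective _ z
  rw [Submodule.mem_bot, ← Submodule.Quotient.mk_smul, Submodule.Quotient.mk_eq_zero]
  exact Submodule.smul_mem_smul hr Submodule.mem_top

/-- A section of the reduced map at level `n + 1`. -/
lemma exists_section_trunc [Module.Flat R M] [Module.Projective R F]
    (p : F →ₗ[R] M) (hp : Function.Surjective p)
    (σ : M →ₗ[R] F ⧸ (I • ⊤ : Submodule R F))
    (hσ : ∀ m, Submodule.mapQ _ (I • ⊤ : Submodule R M) p (map_smul_top_le I p) (σ m) =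
      Submodule.Quotient.mk m) (n : ℕ) :
    ∃ t : M →ₗ[R] F ⧸ (I ^ (n + 1) • ⊤ : Submodule R F),
      ∀ m, trunc I p (n + 1) (t m) = Submodule.Quotient.mk m := by
  let N := M ⧸ (I ^ (n + 1) • ⊤ : Submodule R M)
  let G := F ⧸ (I ^ (n + 1) • ⊤ : Submodule R F)
  let J : Ideal (R ⧸ I ^ (n + 1)) := I.map (Ideal.Quotient.mk (I ^ (n + 1)))
  haveI : Module.Flat (R ⧸ I ^ (n + 1)) N := flat_quotient_pow I (n + 1)
  haveI : Module.Projective (R ⧸ I ^ (n + 1)) G :=
    Module.Projective.of_equiv (LinearEquiv.extendScalarsOfSurjective (S := R ⧸ I ^ (n + 1))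
      Ideal.Quotient.mk_surjective (quotTensorEquivQuotSMul F (I ^ (n + 1))))
  let q : G →ₗ[R ⧸ I ^ (n + 1)] N :=
    LinearMap.extendScalarsOfSurjective Ideal.Quotient.mk_surjective (trunc I p (n + 1))
  have hqs : Function.Surjective q := by
    intro z
    obtain ⟨w, rfl⟩ := Submodule.Quotient.mk_surjective _ z
    obtain ⟨v, rfl⟩ := hp w
    exact ⟨Submodule.Quotient.mk v, rfl⟩
  -- `F / IF → G / JG`
  let c : F →ₗ[R] G ⧸ (J • ⊤ : Submodule (R ⧸ I ^ (n + 1)) G) :=
    ((J • ⊤ : Submodule (R ⧸ I ^ (n + 1)) G).mkQ.restrictScalars R) ∘ₗ Submodule.mkQ _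
  have hkill : ∀ r ∈ I, ∀ z : G ⧸ (J • ⊤ : Submodule (R ⧸ I ^ (n + 1)) G), r • z = 0 := by
    intro r hr z
    obtain ⟨w, rfl⟩ := Submodule.Quotient.mk_surjective _ z
    rw [← Submodule.Quotient.mk_smul, Submodule.Quotient.mk_eq_zero, ← algebraMap_smul
      (R ⧸ I ^ (n + 1)) r w]
    exact Submodule.smul_mem_smul (Ideal.mem_map_of_mem _ hr) Submodule.mem_top
  have hc : (I • ⊤ : Submodule R F) ≤ LinearMap.ker c := by
    rw [Submodule.smul_le]
    intro r hr x _
    rw [LinearMap.mem_ker, map_smul, hkill r hr]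
  let σ₁ : M →ₗ[R] G ⧸ (J • ⊤ : Submodule (R ⧸ I ^ (n + 1)) G) :=
    (Submodule.liftQ (I • ⊤ : Submodule R F) c hc) ∘ₗ σ
  have hσ₁ : (I ^ (n + 1) • ⊤ : Submodule R M) ≤ LinearMap.ker σ₁ := by
    rw [Submodule.smul_le]
    intro r hr x _
    rw [LinearMap.mem_ker, map_smul, hkill r (Ideal.pow_le_self (Nat.succ_ne_zero n) hr)]
  let σ₂ : N →ₗ[R ⧸ I ^ (n + 1)] G ⧸ (J • ⊤ : Submodule (R ⧸ I ^ (n + 1)) G) :=
    LinearMap.extendScalarsOfSurjective Ideal.Quotient.mk_surjective (Submodule.liftQ _ σ₁ hσ₁)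
  have hσ₂ : (J • ⊤ : Submodule (R ⧸ I ^ (n + 1)) N) ≤ LinearMap.ker σ₂ := by
    rw [Submodule.smul_le]
    intro r hr x _
    rw [LinearMap.mem_ker, map_smul]
    obtain ⟨w, hw⟩ := Submodule.Quotient.mk_surjective _ (σ₂ x)
    rw [← hw, ← Submodule.Quotient.mk_smul, Submodule.Quotient.mk_eq_zero]
    exact Submodule.smul_mem_smul hr Submodule.mem_top
  haveI : Module.Projective (R ⧸ I ^ (n + 1)) N := by
    refine projective_of_flat_of_section J (isNilpotent_map_pow I (n + 1)) q hqs
      (Submodule.liftQ _ σ₂ hσ₂) fun z => ?_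
    obtain ⟨w, rfl⟩ := Submodule.Quotient.mk_surjective _ z
    obtain ⟨m, rfl⟩ := Submodule.Quotient.mk_surjective _ w
    obtain ⟨v, hv⟩ := Submodule.Quotient.mk_surjective _ (σ m)
    rw [Submodule.liftQ_apply]
    show Submodule.mapQ _ _ q _ ((Submodule.liftQ (I • ⊤ : Submodule R F) c hc) (σ m)) = _
    rw [← hv, Submodule.liftQ_apply]
    show Submodule.Quotient.mk (Submodule.Quotient.mk (p v)) = _
    have h1 := hσ m
    rw [← hv, Submodule.mapQ_apply, Submodule.Quotient.eq] at h1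
    rw [Submodule.Quotient.eq, ← Submodule.Quotient.mk_sub]
    refine Submodule.smul_induction_on h1 (fun r hr x _ => ?_) fun x y hx hy => ?_
    · rw [Submodule.Quotient.mk_smul, ← algebraMap_smul (R ⧸ I ^ (n + 1)) r]
      exact Submodule.smul_mem_smul (Ideal.mem_map_of_mem _ hr) Submodule.mem_top
    · rw [Submodule.Quotient.mk_add]
      exact Submodule.add_mem _ hx hy
  obtain ⟨t, ht⟩ := Module.projective_lifting_property q LinearMap.id hqs
  exact ⟨t.restrictScalars R ∘ₗ Submodule.mkQ _,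
    fun m => LinearMap.congr_fun ht (Submodule.Quotient.mk m)⟩

/-- Compatible sections. -/
lemma exists_compatible_sections [Module.Flat R M] [Module.Projective R F]
    (p : F →ₗ[R] M) (hp : Function.Surjective p)
    (σ : M →ₗ[R] F ⧸ (I • ⊤ : Submodule R F))
    (hσ : ∀ m, Submodule.mapQ _ (I • ⊤ : Submodule R M) p (map_smul_top_le I p) (σ m) =
      Submodule.Quotient.mk m) :
    ∃ s : ∀ n, M →ₗ[R] F ⧸ (I ^ n • ⊤ : Submodule R F),
      (∀ n m, trunc I p n (s n m) = Submodule.Quotient.mk m) ∧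
      ∀ n m, AdicCompletion.transitionMap I F (Nat.le_succ n) (s (n + 1) m) = s n m := by
  choose t ht using exists_section_trunc I p hp σ hσ
  have hstep : ∀ (n : ℕ) (u : M →ₗ[R] F ⧸ (I ^ n • ⊤ : Submodule R F)),
      (∀ m, trunc I p n (u m) = Submodule.Quotient.mk m) →
      ∃ v : M →ₗ[R] F ⧸ (I ^ (n + 1) • ⊤ : Submodule R F),
        (∀ m, trunc I p (n + 1) (v m) = Submodule.Quotient.mk m) ∧
        ∀ m, AdicCompletion.transitionMap I F (Nat.le_succ n) (v m) = u m := by
    intro n u hu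
    obtain ⟨E, hE⟩ := Module.projective_lifting_property
      (Submodule.mkQ (I ^ n • ⊤ : Submodule R F)) (u ∘ₗ p) (Submodule.mkQ_surjective _)
    let e : M →ₗ[R] F ⧸ (I ^ (n + 1) • ⊤ : Submodule R F) := trunc I E (n + 1) ∘ₗ t n
    let t' : (M ⧸ (I ^ (n + 1) • ⊤ : Submodule R M)) →ₗ[R] F ⧸ (I ^ (n + 1) • ⊤ : Submodule R F) :=
      Submodule.liftQ _ (t n) (ker_of_le_smul I le_rfl _)
    let u' : (M ⧸ (I ^ n • ⊤ : Submodule R M)) →ₗ[R] F ⧸ (I ^ n • ⊤ : Submodule R F) :=
      Submodule.liftQ _ u (ker_of_le_smul I le_rfl _)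
    let π := AdicCompletion.transitionMap I F (Nat.le_succ n)
    let πM := AdicCompletion.transitionMap I M (Nat.le_succ n)
    have htr : ∀ z, trunc I p n (π z) = πM (trunc I p (n + 1) z) := by
      intro z
      obtain ⟨f, rfl⟩ := Submodule.Quotient.mk_surjective _ z
      rfl
    have hπe : ∀ m, π (e m) = u m := by
      intro m
      have h1 : ∀ z, π (trunc I E (n + 1) z) = u' (trunc I p n (π z)) := by
        intro z
        obtain ⟨f, rfl⟩ := Submodule.Quotient.mk_surjective _ z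
        exact LinearMap.congr_fun hE f
      rw [show e m = trunc I E (n + 1) (t n m) from rfl, h1, htr, ht]
      rfl
    refine ⟨t n + e - t' ∘ₗ trunc I p (n + 1) ∘ₗ e, fun m => ?_, fun m => ?_⟩
    · have hpt : ∀ z, trunc I p (n + 1) (t' z) = z := fun z => by
        obtain ⟨w, rfl⟩ := Submodule.Quotient.mk_surjective _ z
        exact ht n w
      simp only [LinearMap.sub_apply, LinearMap.add_apply, LinearMap.comp_apply, map_sub, map_add,
        ht, hpt]
      abel
    · have htrans : ∀ z, π (t' z) = π (t' z) := fun _ => rfl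
      obtain ⟨w, hw⟩ := Submodule.Quotient.mk_surjective _ (trunc I p (n + 1) (e m))
      have h3 : Submodule.Quotient.mk (p := (I ^ n • ⊤ : Submodule R M)) w = Submodule.Quotient.mk m := by
        have := congrArg (trunc I p n) (hπe m)
        rw [htr, ← hw, hu] at this
        exact this
      have h4 : (π ∘ₗ t n) w = (π ∘ₗ t n) m := by
        rw [← sub_eq_zero, ← map_sub]
        exact ker_of_le_smul I le_rfl _ ((Submodule.Quotient.eq _).1 h3)
      simp only [LinearMap.sub_apply, LinearMap.add_apply, LinearMap.comp_apply, map_sub, map_add]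
      rw [← hw]
      show π (t n m) + π (e m) - π (t n w) = u m
      rw [hπe, show π (t n w) = π (t n m) from h4]
      abel
  have h0 : ∀ m, trunc I p 0 ((0 : M →ₗ[R] F ⧸ (I ^ 0 • ⊤ : Submodule R F)) m) =
      Submodule.Quotient.mk m := fun m => by
    haveI : Subsingleton (M ⧸ (I ^ 0 • ⊤ : Submodule R M)) :=
      Submodule.Quotient.subsingleton_iff.2 (by rw [pow_zero, Ideal.one_eq_top, Submodule.top_smul])
    exact Subsingleton.elim _ _
  choose v hv₁ hv₂ using hstep
  let S : ∀ n, {u : M →ₗ[R] F ⧸ (I ^ n • ⊤ : Submodule R F) //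
      ∀ m, trunc I p n (u m) = Submodule.Quotient.mk m} :=
    fun n => Nat.rec ⟨0, h0⟩ (fun n u => ⟨v n u.1 u.2, hv₁ n u.1 u.2⟩) n
  exact ⟨fun n => (S n).1, fun n => (S n).2, fun n m => hv₂ n (S n).1 (S n).2 m⟩

/-- The completion of `M` is a summand of the completion of `F`. -/
lemma exists_completion_section [Module.Flat R M] [Module.Projective R F]
    (p : F →ₗ[R] M) (hp : Function.Surjective p)
    (σ : M →ₗ[R] F ⧸ (I • ⊤ : Submodule R F))
    (hσ : ∀ m, Submodule.mapQ _ (I • ⊤ : Submodule R M) p (map_smul_top_le I p) (σ m) =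
      Submodule.Quotient.mk m) :
    ∃ S : AdicCompletion I M →ₗ[R] AdicCompletion I F,
      (AdicCompletion.map I p).restrictScalars R ∘ₗ S = LinearMap.id := by
  obtain ⟨s, hs, hst⟩ := exists_compatible_sections I p hp σ hσ
  let g : ∀ n, AdicCompletion I M →ₗ[R] F ⧸ (I ^ n • ⊤ : Submodule R F) :=
    fun n => Submodule.liftQ _ (s n) (ker_of_le_smul I le_rfl _) ∘ₗ AdicCompletion.eval I M n
  have hg : ∀ {m n : ℕ} (hmn : m ≤ n),
      AdicCompletion.transitionMap I F hmn ∘ₗ g n = g m := by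
    intro m n hmn
    induction n, hmn using Nat.le_induction with
    | base =>
      refine LinearMap.ext fun x => ?_
      obtain ⟨w, hw⟩ := Submodule.Quotient.mk_surjective _ (g m x)
      rw [LinearMap.comp_apply, ← hw]
      rfl
    | succ n hmn ih =>
      refine LinearMap.ext fun x => ?_
      obtain ⟨w, hw⟩ := Submodule.Quotient.mk_surjective _ (g (n + 1) x)
      have hc : AdicCompletion.transitionMap I F (Nat.le_succ n) (g (n + 1) x) = g n x := by
        obtain ⟨z, hz⟩ := Submodule.Quotient.mk_surjective _ (x.val (n + 1))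
        have hz' : x.val n = Submodule.Quotient.mk z := by
          rw [← x.property (Nat.le_succ n), ← hz]
          rfl
        show AdicCompletion.transitionMap I F (Nat.le_succ n)
          (Submodule.liftQ _ (s (n + 1)) (ker_of_le_smul I le_rfl _) (x.val (n + 1))) =
            Submodule.liftQ _ (s n) (ker_of_le_smul I le_rfl _) (x.val n)
        rw [← hz, hz', Submodule.liftQ_apply, Submodule.liftQ_apply]
        exact hst n z
      rw [← ih]
      show AdicCompletion.transitionMap I F (hmn.trans (Nat.le_succ n)) (g (n + 1) x) =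
        AdicCompletion.transitionMap I F hmn (g n x)
      rw [← hc, ← hw]
      rfl
  refine ⟨AdicCompletion.lift I g hg, LinearMap.ext fun x => AdicCompletion.ext fun n => ?_⟩
  obtain ⟨z, hz⟩ := Submodule.Quotient.mk_surjective _ (x.val n)
  obtain ⟨w, hw⟩ := Submodule.Quotient.mk_surjective _ (s n z)
  have h1 : (AdicCompletion.lift I g hg x).val n = Submodule.Quotient.mk w := by
    show Submodule.liftQ _ (s n) (ker_of_le_smul I le_rfl _) (x.val n) = _
    rw [← hz, Submodule.liftQ_apply, hw]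
  show (AdicCompletion.map I p (AdicCompletion.lift I g hg x)).val n = x.val n
  rw [AdicCompletion.map_val_apply, h1, LinearMap.reduceModIdeal_apply, ← hz, ← hs n z, ← hw]
  rfl

end Groth.MLMod
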