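import Groth.Agent.MLMod.HenselianSplit
import Mathlib.RingTheory.OrzechProperty
import Mathlib.RingTheory.Nakayama

/-!
# Endomorphisms with image in `mN` fix no nonzero tensor
-/

namespace Groth.MLMod

universe u

open TensorProduct IsLocalRing CAlg

variable {R : Type u} [CommRing R] [HenselianLocalRing R]
variable {N M : Type u} [AddCommGroup N] [Module R N] [AddCommGroup M] [Module R M]

omit [HenselianLocalRing R] in
/-- Nakayama: an endomorphism of a finite module with image in `mP` fixes no nonzero tensor. -/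
lemma eq_zero_of_fixed_of_finite [IsLocalRing R] {P : Type u} [AddCommGroup P] [Module R P]
    [Module.Finite R P] (φ : P →ₗ[R] P) (hφ : ∀ p, φ p ∈ (maximalIdeal R • ⊤ : Submodule R P))
    (z' : P ⊗[R] M) (hz' : φ.rTensor M z' = z') : z' = 0 := by
  have hsurj : Function.Surjective (LinearMap.id - φ : P →ₗ[R] P) := by
    rw [← LinearMap.range_eq_top, eq_top_iff]
    refine Submodule.le_of_le_smul_of_le_jacobson_bot Module.Finite.fg_top
      (maximalIdeal_le_jacobson _) fun p _ => ?_
    exact Submodule.mem_sup.2 ⟨(LinearMap.id - φ : P →ₗ[R] P) p, ⟨p, rfl⟩, φ p, hφ p, by simp⟩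
  have hbij : Function.Bijective (LinearMap.id - φ : P →ₗ[R] P) :=
    OrzechProperty.bijective_of_surjective_endomorphism _ hsurj
  have h1 : (LinearMap.id - φ : P →ₗ[R] P).rTensor M z' = 0 := by
    rw [LinearMap.rTensor_sub, LinearMap.sub_apply, LinearMap.rTensor_id, LinearMap.id_apply, hz',
      sub_self]
  generalize (LinearMap.id - φ : P →ₗ[R] P) = ψ at hbij h1
  obtain ⟨e, rfl⟩ : ∃ e : P ≃ₗ[R] P, e.toLinearMap = ψ :=
    ⟨LinearEquiv.ofBijective ψ hbij, LinearMap.ext fun _ => rfl⟩
  exact (e.rTensor M).injective (h1.trans (map_zero (e.rTensor M)).symm)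

/-- Endomorphisms with image in `mN` fix no nonzero tensor. -/
lemma eq_zero_of_rTensor_fixed (hc : IsCountablyGenerated R N) (hML : IsMittagLeffler R N)
    (T : N →ₗ[R] N) (hT : ∀ z, T z ∈ (maximalIdeal R • ⊤ : Submodule R N))
    (z : N ⊗[R] M) (hz : T.rTensor M z = z) : z = 0 := by
  classical
  obtain ⟨L, hind, htop, hfp⟩ := exists_fp_decomposition hML hc
  obtain ⟨k, n, m, rfl⟩ := TensorProduct.exists_sum_tmul_eq z
  have hex : ∀ i, ∃ t : Finset L, n i ∈ ⨆ l ∈ t, l.1 := fun i => by
    refine Submodule.exists_finset_of_mem_iSup (fun l : L => l.1) ?_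
    rw [← sSup_eq_iSup', htop]
    exact Submodule.mem_top
  choose t ht using hex
  let u : Finset L := Finset.univ.biUnion t
  let P : Submodule R N := ⨆ l ∈ (u : Set L), l.1
  have hcompl : IsCompl P (⨆ l ∈ ((u : Set L))ᶜ, l.1) := by
    refine ⟨((sSupIndep_iff _).1 hind).disjoint_biSup_biSup disjoint_compl_right, ?_⟩
    rw [codisjoint_iff, ← iSup_union, Set.union_compl_self, iSup_univ, ← sSup_eq_iSup', htop]
  let π := P.projectionOnto _ hcompl
  haveI : Module.Finite R P := by
    rw [Module.Finite.iff_fg]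
    exact Submodule.fg_biSup u _ fun l _ => Module.Finite.iff_fg.1 (by
      haveI := hfp l.1 l.2
      infer_instance)
  have hn : ∀ i, n i ∈ P := fun i =>
    (biSup_mono fun l hl => Finset.mem_biUnion.2 ⟨i, Finset.mem_univ _, hl⟩ :
      (⨆ l ∈ t i, l.1) ≤ P) (ht i)
  let φ : P →ₗ[R] P := π ∘ₗ T ∘ₗ P.subtype
  let z' : P ⊗[R] M := ∑ i, (⟨n i, hn i⟩ : P) ⊗ₜ[R] m i
  have hz' : φ.rTensor M z' = z' := by
    have h1 : φ.rTensor M z' = π.rTensor M (T.rTensor M (∑ i, n i ⊗ₜ[R] m i)) := by
      simp [z', φ, map_sum]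
    rw [h1, hz]
    simp only [z', map_sum, LinearMap.rTensor_tmul]
    exact Finset.sum_congr rfl fun i _ => by
      rw [Submodule.projectionOnto_apply_of_mem_left hcompl (hn i)]
  have hφ : ∀ p, φ p ∈ (maximalIdeal R • ⊤ : Submodule R P) := fun p => by
    have hle : (maximalIdeal R • ⊤ : Submodule R N) ≤
        (maximalIdeal R • ⊤ : Submodule R P).comap π := by
      rw [← Submodule.map_le_iff_le_comap, Submodule.map_smul'']
      exact Submodule.smul_mono le_rfl le_top
    exact hle (hT p.1)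
  have h0 : z' = 0 := eq_zero_of_fixed_of_finite φ hφ z' hz'
  have := congrArg (P.subtype.rTensor M) h0
  simpa [z', map_sum] using this

end Groth.MLMod
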