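import Groth.Agent.MLMod.Tower
import Groth.Agent.MLMod.CG
import Groth.Agent.HenselLib.TFAE
import Groth.Agent.HenselLib.Local
import Mathlib.RingTheory.Henselian
import Mathlib.RingTheory.Artinian.Module

/-!
# Mittag-Leffler modules over henselian local rings split into finitely presented pieces
-/

namespace Groth.MLMod

universe u

open CAlg IsLocalRing

/-- In an Artinian ring every element has an idempotent separating `h` and `1 - h`. -/
lemma exists_idempotent_of_artinian {B : Type u} [CommRing B] [IsArtinianRing B] (h : B) :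
    ∃ e : B, IsIdempotentElem e ∧ IsUnit (e * h + (1 - e)) ∧ IsUnit ((1 - e) * (1 - h) + e) := by
  obtain ⟨n, y, hy⟩ := IsArtinian.exists_pow_succ_smul_dvd h (1 : B)
  simp only [smul_eq_mul, mul_one] at hy
  have hiter : ∀ i : ℕ, h ^ n = h ^ (n + i) * y ^ i := by
    intro i
    induction i with
    | zero => simp
    | succ i ih =>
      calc h ^ n = h ^ (n + i) * y ^ i := ih
        _ = h ^ i * (h ^ n.succ * y) * y ^ i := by rw [hy]; ring
        _ = h ^ (n + (i + 1)) * y ^ (i + 1) := by
          rw [Nat.succ_eq_add_one]; ring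
  have hee : h ^ n * y ^ n * (h ^ n * y ^ n) = h ^ n * y ^ n := by
    conv_rhs => rw [hiter n]
    ring
  have hey : h ^ n * y ^ n * h * y = h ^ n * y ^ n := by
    calc h ^ n * y ^ n * h * y = (h ^ n.succ * y) * y ^ n := by rw [Nat.succ_eq_add_one]; ring
      _ = h ^ n * y ^ n := by rw [hy]
  have hkill : (1 - h ^ n * y ^ n) * h ^ n = 0 := by
    have := hiter n
    linear_combination this
  generalize h ^ n * y ^ n = e at hee hey hkill
  refine ⟨e, hee, IsUnit.of_mul_eq_one (e * y + (1 - e)) ?_,
    IsUnit.of_mul_eq_one ((1 - e) * (∑ i ∈ Finset.range n, h ^ i) + e) ?_⟩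
  · linear_combination e * hey + hee - (h + y - 1) * hee + hee - hee
  · have hg : (1 - h) * ∑ i ∈ Finset.range n, h ^ i = 1 - h ^ n := mul_neg_geom_sum h n
    linear_combination (1 - e) * (1 - e) * hg - (1 - e) * hkill +
      (1 + h - ∑ i ∈ Finset.range n, h ^ i) * hee

variable {R : Type u} [CommRing R] [HenselianLocalRing R]

/-- In a finite commutative algebra over a henselian local ring every element has an idempotent
separating `h` and `1 - h`. -/
lemma exists_idempotent_of_finite {B : Type u} [CommRing B] [Algebra R B] [Module.Finite R B]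
    (h : B) : ∃ e : B, IsIdempotentElem e ∧ IsUnit (e * h + (1 - e)) ∧
      IsUnit ((1 - e) * (1 - h) + e) := by
  let q := Ideal.Quotient.mk ((maximalIdeal R).map (algebraMap R B))
  haveI := Groth.Agent.HenselLib.isArtinian_quotient_maximalIdeal (A := R) (B := B)
  obtain ⟨eb, heb, hu₁, hu₂⟩ := exists_idempotent_of_artinian (q h)
  obtain ⟨x, rfl⟩ := Ideal.Quotient.mk_surjective eb
  have hx : x ^ 2 - x ∈ (maximalIdeal R).map (algebraMap R B) :=
    Ideal.Quotient.eq.1 (show q (x ^ 2) = q x by rw [map_pow, pow_two]; exact heb)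
  obtain ⟨e, he, hex⟩ := Groth.Agent.HenselLib.exists_idem (maximalIdeal R) hx
  have hJ : (maximalIdeal R).map (algebraMap R B) ≤ Ideal.jacobson ⊥ :=
    Groth.Agent.HenselLib.map_le_jacobson (maximalIdeal_le_jacobson _)
  haveI := isLocalHom_of_le_jacobson_bot _ hJ
  have hqe : q e = q x := Ideal.Quotient.eq.2 hex
  exact ⟨e, he,
    IsUnit.of_map q _ (by simpa only [map_add, map_sub, map_mul, map_one, hqe] using hu₁),
    IsUnit.of_map q _ (by simpa only [map_add, map_sub, map_mul, map_one, hqe] using hu₂)⟩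

variable {M : Type u} [AddCommGroup M] [Module R M]

/-- Every element lies in a finitely presented direct summand. -/
lemma exists_fp_summand_mem (hML : IsMittagLeffler R M) (hc : IsCountablyGenerated R M) (x : M) :
    ∃ r : M →ₗ[R] M, (∀ z, r (r z) = r z) ∧ r x = x ∧
      Module.FinitePresentation R (LinearMap.range r) := by
  classical
  obtain ⟨Q, _, _, _, b, c, hbc⟩ :=
    exists_endo hML hc (Fintype.linearCombination R fun _ : Fin 1 => x)
  have hx : c (b x) = x := by
    have := LinearMap.congr_fun hbc (Pi.single 0 1)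
    simpa [Fintype.linearCombination_apply_single] using this
  let h0 : Module.End R Q := b ∘ₗ c
  obtain ⟨P, hPm, hP⟩ : ∃ P : Polynomial R, P.Monic ∧ Polynomial.aeval h0 P = 0 := by
    obtain ⟨P, hm, h⟩ := Algebra.IsIntegral.isIntegral (R := R) h0
    exact ⟨P, hm, h⟩
  haveI : Module.Finite R (AdjoinRoot P) := hPm.finite_adjoinRoot
  obtain ⟨e, he, ⟨u₁, hu₁⟩, ⟨u₂, hu₂⟩⟩ :=
    exists_idempotent_of_finite (R := R) (AdjoinRoot.root P)
  let ψ : AdjoinRoot P →ₐ[R] Module.End R Q :=
    Ideal.Quotient.liftₐ _ (Polynomial.aeval h0) fun a ha => by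
      obtain ⟨d, rfl⟩ := Ideal.mem_span_singleton'.1 ha
      rw [map_mul, hP, mul_zero]
  have hψ : ψ (AdjoinRoot.root P) = h0 := Polynomial.aeval_X h0
  -- `e = root * w` and `1 - e = v * (1 - root)`
  let w : AdjoinRoot P := e * ↑u₁⁻¹
  have hw : e = AdjoinRoot.root P * w := by
    have he' : e * e = e := he
    calc e = e * ((u₁ : AdjoinRoot P) * ↑u₁⁻¹) := by rw [Units.mul_inv, mul_one]
      _ = (e * (e * AdjoinRoot.root P + (1 - e))) * ↑u₁⁻¹ := by rw [hu₁]; ring
      _ = AdjoinRoot.root P * w := by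
        simp only [w]
        linear_combination (AdjoinRoot.root P * (↑u₁⁻¹ : AdjoinRoot P) - ↑u₁⁻¹) * he'
  have hv : 1 - e = (1 - e) * ↑u₂⁻¹ * (1 - AdjoinRoot.root P) := by
    have he' : e * e = e := he
    calc 1 - e = (1 - e) * ((u₂ : AdjoinRoot P) * ↑u₂⁻¹) := by rw [Units.mul_inv, mul_one]
      _ = (1 - e) * ((1 - e) * (1 - AdjoinRoot.root P) + e) * ↑u₂⁻¹ := by rw [hu₂]; ring
      _ = _ := by
        linear_combination ((1 - AdjoinRoot.root P) * (↑u₂⁻¹ : AdjoinRoot P) - ↑u₂⁻¹) * he'
  have hew : ψ e = ψ w * h0 := by rw [← hψ, ← map_mul, mul_comm, ← hw]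
  have hfix : ψ e (b x) = b x := by
    have h1 : ((1 : Module.End R Q) - h0) (b x) = 0 := by
      show b x - b (c (b x)) = 0
      rw [hx, sub_self]
    have h2 : ψ (1 - e) (b x) = 0 := by
      rw [hv, map_mul, map_sub, map_one, hψ, Module.End.mul_apply, h1, map_zero]
    rw [map_sub, map_one, LinearMap.sub_apply, Module.End.one_apply, sub_eq_zero] at h2
    exact h2.symm
  have hidem : ∀ z, ψ e (ψ e z) = ψ e z := fun z => by
    rw [← Module.End.mul_apply, ← map_mul, he.eq]
  have hcomm : ∀ z, ψ e (ψ w z) = ψ w (ψ e z) := fun z => by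
    rw [← Module.End.mul_apply, ← map_mul, mul_comm, map_mul, Module.End.mul_apply]
  -- the idempotent on `M`
  let r : M →ₗ[R] M := c ∘ₗ ψ e ∘ₗ ψ w ∘ₗ b
  have hkey : ∀ z, ψ e (ψ w (b (c (ψ e z)))) = ψ e z := fun z => by
    have : ψ w (h0 (ψ e z)) = ψ e z := by
      rw [← Module.End.mul_apply, ← hew, hidem]
    rw [show b (c (ψ e z)) = h0 (ψ e z) from rfl, this, hidem]
  refine ⟨r, fun z => ?_, ?_, ?_⟩
  · exact congrArg c (hkey (ψ w (b z)))
  · show c (ψ e (ψ w (b x))) = x
    rw [← hfix]
    have := congrArg c (hkey (b x))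
    rw [hfix] at this ⊢
    calc c (ψ e (ψ w (b x))) = c (ψ e (ψ w (b (c (b x))))) := by rw [hx]
      _ = c (b x) := this
      _ = x := hx
  · -- `range r` is isomorphic to the summand `range (ψ e)`
    haveI : Module.FinitePresentation R (LinearMap.range (ψ e)) :=
      Module.finitePresentation_of_surjective (ψ e).rangeRestrict (ψ e).surjective_rangeRestrict
        (by
          have hk : LinearMap.ker (ψ e).rangeRestrict = LinearMap.range (1 - ψ e) := by
            rw [LinearMap.ker_rangeRestrict]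
            ext z
            refine ⟨fun hz => ⟨z, by simp [LinearMap.mem_ker.1 hz]⟩, ?_⟩
            rintro ⟨t, rfl⟩
            simp [hidem]
          rw [hk, LinearMap.range_eq_map]
          exact Module.Finite.fg_top.map _)
    let f : LinearMap.range (ψ e) →ₗ[R] M := c ∘ₗ (LinearMap.range (ψ e)).subtype
    have hf : Function.Injective f := by
      rintro ⟨_, a, rfl⟩ ⟨_, a', rfl⟩ heq
      apply Subtype.ext
      show ψ e a = ψ e a'
      rw [← hkey a, ← hkey a']
      exact congrArg (fun t => ψ e (ψ w (b t))) heq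
    have hrange : LinearMap.range f = LinearMap.range r := by
      apply le_antisymm
      · rintro _ ⟨⟨_, a, rfl⟩, rfl⟩
        exact ⟨c (ψ e a), congrArg c (hkey a)⟩
      · rintro _ ⟨z, rfl⟩
        exact ⟨⟨_, ψ w (b z), rfl⟩, rfl⟩
    exact Module.FinitePresentation.of_equiv
      ((LinearEquiv.ofInjective f hf).trans (LinearEquiv.ofEq _ _ hrange))

/-- A finite stage of the decomposition. -/
structure SplitStage (R : Type u) [CommRing R] (M : Type u) [AddCommGroup M] [Module R M] where
  /-- the projection -/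
  π : M →ₗ[R] M
  idem : ∀ z, π (π z) = π z
  /-- the pieces -/
  L : Set (Submodule R M)
  indep : sSupIndep L
  sup : sSup L = LinearMap.range π
  fp : ∀ l ∈ L, Module.FinitePresentation R l

lemma exists_splitStage_succ (hML : IsMittagLeffler R M) (hc : IsCountablyGenerated R M)
    (s : SplitStage R M) (x : M) :
    ∃ t : SplitStage R M, s.L ⊆ t.L ∧ x ∈ sSup t.L := by
  let K := LinearMap.ker s.π
  let p : M →ₗ[R] K := (LinearMap.id - s.π).codRestrict K fun z => by
    simp [K, s.idem]
  have hp : p ∘ₗ K.subtype = LinearMap.id := LinearMap.ext fun z => Subtype.ext <| by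
    simp [p, LinearMap.mem_ker.1 z.2]
  have hKML : IsMittagLeffler R K := ml_of_ui (ui_of_leftInverse p hp) hML
  have hKc : IsCountablyGenerated R K := by
    obtain ⟨g, hg, hspan⟩ := hc
    refine ⟨p '' g, hg.image _, ?_⟩
    rw [Submodule.span_image, hspan, Submodule.map_top, LinearMap.range_eq_top]
    exact fun z => ⟨z, LinearMap.congr_fun hp z⟩
  obtain ⟨r, hr, hrx, hfp⟩ := exists_fp_summand_mem hKML hKc (p x)
  let N := LinearMap.range (K.subtype ∘ₗ r)
  haveI : Module.FinitePresentation R N := Module.FinitePresentation.of_equiv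
    ((Submodule.equivMapOfInjective K.subtype K.injective_subtype (LinearMap.range r)).trans
      (LinearEquiv.ofEq _ _ (LinearMap.range_comp _ _).symm))
  have hpπ : ∀ z, p (s.π z) = 0 := fun z => Subtype.ext <| by simp [p, s.idem]
  have hπK : ∀ z : K, s.π z.1 = 0 := fun z => z.2
  have hdisj : Disjoint N (sSup s.L) := by
    rw [s.sup, Submodule.disjoint_def]
    rintro _ ⟨z, rfl⟩ ⟨w, hw⟩
    have h1 : s.π ((K.subtype ∘ₗ r) z) = 0 := hπK (r z)
    rw [← hw, s.idem] at h1
    rw [← hw, h1]
  refine ⟨{ π := s.π + K.subtype ∘ₗ r ∘ₗ p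
            idem := fun z => ?_
            L := insert N s.L
            indep := sSupIndep_insert_of_disjoint s.indep hdisj
            sup := ?_
            fp := ?_ }, Set.subset_insert _ _, ?_⟩
  · have hpK : ∀ k : K, p k.1 = k := fun k => LinearMap.congr_fun hp k
    simp [map_add, s.idem, hπK, hpπ, hpK, hr]
  · rw [sSup_insert, s.sup]
    apply le_antisymm
    · refine sup_le ?_ ?_
      · rintro _ ⟨z, rfl⟩
        have hpK : p (K.subtype (r z)) = r z := LinearMap.congr_fun hp (r z)
        exact ⟨K.subtype (r z), by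
          simp only [LinearMap.add_apply, LinearMap.comp_apply, hpK, hr]
          rw [Submodule.subtype_apply, hπK, zero_add]⟩
      · rintro _ ⟨z, rfl⟩
        exact ⟨s.π z, by simp [s.idem, hpπ]⟩
    · rintro _ ⟨z, rfl⟩
      exact Submodule.add_mem _ (Submodule.mem_sup_right ⟨z, rfl⟩)
        (Submodule.mem_sup_left ⟨p z, rfl⟩)
  · rintro l (rfl | hl)
    · infer_instance
    · exact s.fp l hl
  · rw [sSup_insert, s.sup]
    have : x = (K.subtype ∘ₗ r) (p x) + s.π x := by simp [hrx, p]
    rw [this]
    exact Submodule.add_mem_sup ⟨p x, rfl⟩ ⟨x, rfl⟩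

/-- Countably generated Mittag-Leffler modules over henselian local rings are direct sums of
finitely presented modules. -/
theorem exists_fp_decomposition (hML : IsMittagLeffler R M) (hc : IsCountablyGenerated R M) :
    ∃ L : Set (Submodule R M), sSupIndep L ∧ sSup L = ⊤ ∧
      ∀ l ∈ L, Module.FinitePresentation R l := by
  obtain ⟨m, hm⟩ := exists_generating_seq hc
  let s0 : SplitStage R M :=
    { π := 0
      idem := fun z => rfl
      L := ∅
      indep := sSupIndep_empty
      sup := by rw [sSup_empty, LinearMap.range_zero]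
      fp := fun l hl => hl.elim }
  choose nx hnx₁ hnx₂ using fun (s : SplitStage R M) (n : ℕ) =>
    exists_splitStage_succ hML hc s (m n)
  let st : ℕ → SplitStage R M := fun n => Nat.rec s0 (fun n s => nx s n) n
  have hmono : Monotone fun n => (st n).L := monotone_nat_of_le_succ fun n => hnx₁ (st n) n
  refine ⟨⋃ n, (st n).L, sSupIndep_iUnion_of_directed hmono.directed_le fun n => (st n).indep,
    ?_, fun l hl => ?_⟩
  · rw [eq_top_iff, ← hm, Submodule.span_le]
    rintro _ ⟨n, rfl⟩
    exact (sSup_le_sSup (Set.subset_iUnion (fun n => (st n).L) (n + 1))) (hnx₂ (st n) n)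
  · obtain ⟨n, hn⟩ := Set.mem_iUnion.1 hl
    exact (st n).fp l hn

end Groth.MLMod
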