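import Groth.Agent.MLMod.Projective
import Groth.Agent.MLMod.Tower
import Mathlib.LinearAlgebra.Matrix.Determinant.Basic
import Mathlib.LinearAlgebra.Matrix.NonsingularInverse
import Mathlib.RingTheory.LocalRing.ResidueField.Basic
import Mathlib.LinearAlgebra.Basis.Basic
import Mathlib.LinearAlgebra.DirectSum.Basis

/-!
# Projective modules over local rings are free
-/

namespace Groth.MLMod

universe u

open CAlg

variable {R : Type u} [CommRing R] [IsLocalRing R] {P : Type u} [AddCommGroup P] [Module R P]

/-- Every element of a projective module lies in a finite free direct summand. -/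
lemma exists_free_summand_mem [Module.Projective R P] (x : P) :
    ∃ (n : ℕ) (w : (Fin n → R) →ₗ[R] P) (ψ : P →ₗ[R] (Fin n → R)),
      ψ ∘ₗ w = LinearMap.id ∧ x ∈ LinearMap.range w := by
  classical
  obtain ⟨s, hs⟩ := Module.Projective.out (R := R) (P := P)
  let F := P →₀ R
  let π : F →ₗ[R] P := Finsupp.linearCombination R id
  let Good : ℕ → Prop := fun n => ∃ (v : (Fin n → R) →ₗ[R] F) (φ : F →ₗ[R] (Fin n → R)),
    φ ∘ₗ v = LinearMap.id ∧ s x ∈ LinearMap.range v
  have hex : ∃ n, Good n := by
    let t := (s x).support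
    let e := t.equivFin
    refine ⟨t.card, Fintype.linearCombination R fun i => Finsupp.single (e.symm i).1 1,
      LinearMap.pi fun i => Finsupp.lapply (e.symm i).1, ?_, ?_⟩
    · refine LinearMap.pi_ext' fun i => LinearMap.ext_ring (funext fun j => ?_)
      rcases eq_or_ne i j with rfl | hij
      · simp [Fintype.linearCombination_apply_single]
        exact Finsupp.single_eq_same
      · have : (e.symm j).1 ≠ (e.symm i).1 := fun h => hij (e.symm.injective (Subtype.ext h.symm))
        simp [Fintype.linearCombination_apply_single, hij.symm]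
        exact Finsupp.single_eq_of_ne this
    · refine ⟨fun i => s x (e.symm i).1, ?_⟩
      rw [Fintype.linearCombination_apply]
      have h1 : ∀ i, s x (e.symm i).1 • (Finsupp.single (e.symm i).1 1 : F) =
          Finsupp.single (e.symm i).1 (s x (e.symm i).1) := fun i => by
        rw [Finsupp.smul_single', mul_one]
      simp only [h1]
      rw [e.symm.sum_comp (fun a : t => Finsupp.single a.1 (s x a.1)),
        Finset.sum_coe_sort t (fun a => Finsupp.single a (s x a))]
      exact (Finsupp.sum_single (s x))
  let n := Nat.find hex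
  obtain ⟨v, φ, hφv, a, ha⟩ := Nat.find_spec hex
  have hrel : ∀ c : Fin n → R, ∑ i, c i * a i = 0 → ∀ k, ¬ IsUnit (c k) := by
    intro c hc k hk
    obtain ⟨u, hu⟩ := hk
    have hpos : 0 < n := k.pos
    obtain ⟨m, hm⟩ : ∃ m, n = m + 1 := ⟨n - 1, by omega⟩
    refine Nat.find_min hex (show m < Nat.find hex by change m < n; omega) ?_
    let e : Fin (m + 1) ≃ Fin n := finCongr hm.symm
    obtain ⟨k', rfl⟩ := e.surjective k
    let d : Fin m → R := fun j => -(↑u⁻¹ * c (e (k'.succAbove j)))
    let ι' : (Fin m → R) →ₗ[R] (Fin n → R) :=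
      Fintype.linearCombination R fun j => Pi.single (e (k'.succAbove j)) 1
    let ρ' : (Fin n → R) →ₗ[R] (Fin m → R) :=
      LinearMap.pi fun j => LinearMap.proj (e (k'.succAbove j)) - d j • LinearMap.proj (e k')
    -- the new basis vectors are `e j + d j • e k`
    let v' : (Fin m → R) →ₗ[R] (Fin n → R) :=
      ι' + (Fintype.linearCombination R d).smulRight (Pi.single (e k') 1)
    have hρι : ∀ b j, v' b (e (k'.succAbove j)) = b j := by
      intro b j
      simp [v', ι', Fintype.linearCombination_apply, Finset.sum_apply, Pi.single_apply,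
        e.injective.eq_iff, Fin.succAbove_ne, Fin.succAbove_right_injective.eq_iff]
    refine ⟨v ∘ₗ v', (LinearMap.pi fun j => LinearMap.proj (e (k'.succAbove j))) ∘ₗ φ, ?_, ?_⟩
    · refine LinearMap.ext fun b => funext fun j => ?_
      simp only [LinearMap.comp_apply, LinearMap.pi_apply, LinearMap.proj_apply]
      rw [← LinearMap.comp_apply φ v, hφv, LinearMap.id_apply, hρι]
      rfl
    · refine ⟨fun j => a (e (k'.succAbove j)), ?_⟩
      rw [← ha, LinearMap.comp_apply]
      congr 1
      funext i
      obtain ⟨i', rfl⟩ := e.surjective i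
      rcases Fin.eq_self_or_eq_succAbove k' i' with rfl | ⟨j, rfl⟩
      · have hsum : ∑ i, c i * a i = c (e i') * a (e i') +
            ∑ j, c (e (i'.succAbove j)) * a (e (i'.succAbove j)) := by
          rw [← e.sum_comp, Fin.sum_univ_succAbove _ i']
        rw [hc, ← hu] at hsum
        simp [v', ι', d, Fintype.linearCombination_apply, Finset.sum_apply, Pi.single_apply,
          e.injective.eq_iff, Fin.succAbove_ne, Fin.ne_succAbove]
        have hk' : a (e i') = -(↑u⁻¹ * ∑ j, c (e (i'.succAbove j)) * a (e (i'.succAbove j))) := by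
          linear_combination (↑u⁻¹ : R) * hsum.symm - a (e i') * u.inv_mul
        rw [hk', Finset.mul_sum]
        congr 1
        exact Finset.sum_congr rfl fun j _ => by ring
      · exact hρι _ j
  -- the matrix of the idempotent on the minimal basis is invertible
  let B : (Fin n → R) →ₗ[R] (Fin n → R) := φ ∘ₗ s ∘ₗ π ∘ₗ v
  have hBa : B a = a := by
    show φ (s (π (v a))) = a
    rw [ha, show π (s x) = x from hs x, ← ha, ← LinearMap.comp_apply φ v, hφv, LinearMap.id_apply]
  let BM := LinearMap.toMatrix' B
  have hunit : IsUnit BM.det := by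
    by_contra hnot
    have hmap : BM.map (IsLocalRing.residue R) = 1 := by
      ext i j
      have h0 : ∑ l, (BM i l - (if i = l then 1 else 0)) * a l = 0 := by
        have := congrFun (show BM.mulVec a = a by rw [LinearMap.toMatrix'_mulVec, hBa]) i
        simp only [Matrix.mulVec, dotProduct] at this
        simp [sub_mul, Finset.sum_sub_distrib, this]
      have hj := hrel _ h0 j
      rw [← mem_nonunits_iff, ← IsLocalRing.mem_maximalIdeal, ← IsLocalRing.residue_eq_zero_iff,
        map_sub, sub_eq_zero] at hj
      rw [Matrix.map_apply, hj, Matrix.one_apply]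
      split <;> simp
    have hdet : IsLocalRing.residue R BM.det = 1 := by
      rw [RingHom.map_det, RingHom.mapMatrix_apply, hmap, Matrix.det_one]
    rw [← mem_nonunits_iff, ← IsLocalRing.mem_maximalIdeal, ← IsLocalRing.residue_eq_zero_iff,
      hdet] at hnot
    exact one_ne_zero hnot
  let Binv := Matrix.toLin' BM⁻¹
  have hBinv : Binv ∘ₗ B = LinearMap.id := by
    rw [← Matrix.toLin'_toMatrix' B, ← Matrix.toLin'_mul, Matrix.nonsing_inv_mul _ hunit,
      Matrix.toLin'_one]
  refine ⟨n, π ∘ₗ v, Binv ∘ₗ φ ∘ₗ s, ?_, a, ?_⟩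
  · rw [← hBinv]
    rfl
  · show π (v a) = x
    rw [ha]
    exact hs x

/-- A split finite free piece of `P`. -/
structure Piece (R : Type u) [CommRing R] (P : Type u) [AddCommGroup P] [Module R P] where
  /-- index -/
  κ : Type
  [fin : Fintype κ]
  /-- vectors -/
  v : κ → P
  /-- dual vectors -/
  φ : P →ₗ[R] (κ → R)
  split : φ ∘ₗ Fintype.linearCombination R v = LinearMap.id

attribute [instance] Piece.fin

lemma exists_piece_succ [Module.Projective R P] (s : Piece R P) (x : P) :
    ∃ t : Piece R P, Set.range s.v ⊆ Set.range t.v ∧ x ∈ Submodule.span R (Set.range t.v) := by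
  let L := Fintype.linearCombination R s.v
  let proj : P →ₗ[R] LinearMap.ker s.φ := (LinearMap.id - L ∘ₗ s.φ).codRestrict _ fun z => by
    rw [LinearMap.mem_ker, LinearMap.sub_apply, map_sub, LinearMap.comp_apply,
      ← LinearMap.comp_apply s.φ L, s.split]
    simp
  haveI : Module.Projective R (LinearMap.ker s.φ) := by
    refine Module.Projective.of_split (LinearMap.ker s.φ).subtype proj (LinearMap.ext fun z => ?_)
    apply Subtype.ext
    simp [proj, LinearMap.mem_ker.1 z.2]
  obtain ⟨m, w, ψ, hψ, y, hy⟩ := exists_free_summand_mem (R := R) (proj x)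
  classical
  let v' : s.κ ⊕ Fin m → P := Sum.elim s.v fun i => (w (Pi.single i 1)).1
  let φ' : P →ₗ[R] (s.κ ⊕ Fin m → R) :=
    LinearMap.pi (Sum.elim (fun i => LinearMap.proj i ∘ₗ s.φ)
      fun i => LinearMap.proj i ∘ₗ ψ ∘ₗ proj)
  have hsv : ∀ i, s.φ (s.v i) = Pi.single i 1 := fun i => by
    have := LinearMap.congr_fun s.split (Pi.single i 1)
    simpa [Fintype.linearCombination_apply_single] using this
  have hpv : ∀ i, proj (s.v i) = 0 := fun i => by
    apply Subtype.ext
    simp [proj, L, hsv, Fintype.linearCombination_apply_single]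
  have hpk : ∀ z : LinearMap.ker s.φ, proj z.1 = z := fun z => by
    apply Subtype.ext
    simp [proj, LinearMap.mem_ker.1 z.2]
  refine ⟨{ κ := s.κ ⊕ Fin m, v := v', φ := φ', split := ?_ }, ?_, ?_⟩
  · refine LinearMap.pi_ext' fun i => LinearMap.ext_ring (funext fun j => ?_)
    rcases i with i | i <;> rcases j with j | j <;>
      simp [v', φ', Fintype.linearCombination_apply_single, hsv, hpv, hpk,
        LinearMap.mem_ker.1 (w (Pi.single _ 1)).2, Pi.single_apply]
    have := congrFun (LinearMap.congr_fun hψ (Pi.single i 1)) j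
    simpa [Pi.single_apply] using this
  · rintro _ ⟨i, rfl⟩
    exact ⟨Sum.inl i, rfl⟩
  · have hx : x = ∑ i, s.φ x i • s.v i + (proj x : P) := by
      simp [proj, L, Fintype.linearCombination_apply]
    rw [hx]
    refine Submodule.add_mem _ (Submodule.sum_mem _ fun i _ => Submodule.smul_mem _ _
      (Submodule.subset_span ⟨Sum.inl i, rfl⟩)) ?_
    rw [← hy, pi_eq_sum_univ' y, map_sum, Submodule.coe_sum]
    refine Submodule.sum_mem _ fun i _ => ?_
    rw [map_smul, Submodule.coe_smul]
    exact Submodule.smul_mem _ _ (Submodule.subset_span ⟨Sum.inr i, rfl⟩)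

lemma Piece.linearIndependent (s : Piece R P) : LinearIndependent R s.v := by
  rw [Fintype.linearIndependent_iff]
  intro g hg
  have := LinearMap.congr_fun s.split g
  rw [LinearMap.comp_apply, Fintype.linearCombination_apply, hg, map_zero] at this
  exact fun i => (congrFun this i).symm

lemma free_of_projective_cg [Module.Projective R P] (hc : IsCountablyGenerated R P) :
    Module.Free R P := by
  obtain ⟨m, hm⟩ := exists_generating_seq hc
  let s0 : Piece R P := 
    { κ := PEmpty
      v := PEmpty.elim
      φ := 0
      split := LinearMap.ext fun z => funext fun i => i.elim }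
  let st : ℕ → Piece R P := fun n =>
    Nat.rec s0 (fun n s => Classical.choose (exists_piece_succ s (m n))) n
  have hst : ∀ n, Set.range (st n).v ⊆ Set.range (st (n + 1)).v ∧
      m n ∈ Submodule.span R (Set.range (st (n + 1)).v) := fun n =>
    Classical.choose_spec (exists_piece_succ (st n) (m n))
  have hmono : Monotone fun n => Set.range (st n).v := monotone_nat_of_le_succ fun n => (hst n).1
  have hli : LinearIndepOn R id (⋃ n, Set.range (st n).v) :=
    linearIndepOn_iUnion_of_directed hmono.directed_le fun n =>
      (st n).linearIndependent.linearIndepOn_id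
  refine Module.Free.of_basis (Module.Basis.mk hli ?_)
  rw [← hm, Submodule.span_le]
  rintro _ ⟨n, rfl⟩
  refine Submodule.span_mono ?_ (hst n).2
  intro x hx
  exact ⟨⟨x, Set.mem_iUnion.2 ⟨n + 1, hx⟩⟩, rfl⟩

lemma free_of_projective [Module.Projective R P] : Module.Free R P := by
  classical
  obtain ⟨L, hind, htop, hcg⟩ := exists_decomposition_of_projective (R := R) (M := P)
  have hint := isInternal_of_sSupIndep hind htop
  let e := LinearEquiv.ofBijective (DirectSum.coeLinearMap fun l : L => l.1) hint
  haveI : ∀ l : L, Module.Projective R l.1 := fun l => by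
    refine Module.Projective.of_split l.1.subtype
      (DirectSum.component R L (fun l => ↥l.1) l ∘ₗ e.symm.toLinearMap) (LinearMap.ext fun z => ?_)
    have : e.symm z.1 = DirectSum.lof R L (fun l => ↥l.1) l z := by
      rw [LinearEquiv.symm_apply_eq]
      exact (DirectSum.coeLinearMap_of (fun l : L => l.1) l z).symm
    simp [this]
  haveI : ∀ l : L, Module.Free R l.1 := fun l => free_of_projective_cg (subCG_iff.1 (hcg l.1 l.2))
  exact Module.Free.of_equiv e

end Groth.MLMod
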