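import Groth.Agent.MLMod.Basic
import Groth.Prelude.Def_Found
import Mathlib.LinearAlgebra.DirectSum.Finsupp
import Mathlib.Algebra.Module.Projective

/-!
# Mittag-Leffler modules: basic properties and the domination criterion
-/

namespace Groth.MLMod

universe u

open TensorProduct CAlg

variable {R : Type u} [CommRing R]

variable {M N P : Type u} [AddCommGroup M] [Module R M] [AddCommGroup N] [Module R N]
  [AddCommGroup P] [Module R P]

/-- `rTensor` and `lTensor` commute. -/
lemma lTensor_rTensor {X Y : Type u} [AddCommGroup X] [Module R X] [AddCommGroup Y] [Module R Y]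
    (f : M →ₗ[R] N) (φ : X →ₗ[R] Y) (x : M ⊗[R] X) :
    φ.lTensor N (f.rTensor X x) = f.rTensor Y (φ.lTensor M x) := by
  rw [← LinearMap.comp_apply, ← LinearMap.comp_apply, LinearMap.lTensor_comp_rTensor,
    LinearMap.rTensor_comp_lTensor]

section

variable {ι : Type u} {Q : ι → Type u} [∀ i, AddCommGroup (Q i)] [∀ i, Module R (Q i)]

lemma piRightHom_eq (x : M ⊗[R] (∀ i, Q i)) (i : ι) :
    piRightHom R R M Q x i = (LinearMap.proj i : (∀ i, Q i) →ₗ[R] Q i).lTensor M x := by
  induction x with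
  | zero => simp
  | tmul m q => simp
  | add x y hx hy => simp [hx, hy]

/-- For a finitely generated module the comparison map is surjective. -/
lemma exists_preimage_pi [Module.Finite R M] (y : ∀ i, M ⊗[R] Q i) :
    ∃ x : M ⊗[R] (∀ i, Q i), ∀ i, (LinearMap.proj i).lTensor M x = y i := by
  obtain ⟨n, g, hg⟩ := Module.Finite.exists_fin (R := R) (M := M)
  have : ∀ i, ∃ q : Fin n → Q i, y i = ∑ j, g j ⊗ₜ[R] q j := by
    intro i
    obtain ⟨q, hq⟩ := exists_sum_tmul_of_span_eq_top hg (TensorProduct.comm R M (Q i) (y i))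
    exact ⟨q, by simpa using congrArg (TensorProduct.comm R (Q i) M) hq⟩
  choose q hq using this
  exact ⟨∑ j, g j ⊗ₜ fun i => q i j, fun i => by simp [hq]⟩

end

lemma isML_iff : IsMittagLeffler R M ↔
    ∀ (ι : Type u) (Q : ι → Type u) [∀ i, AddCommGroup (Q i)] [∀ i, Module R (Q i)]
      (x : M ⊗[R] (∀ i, Q i)),
      (∀ i, (LinearMap.proj i : (∀ i, Q i) →ₗ[R] Q i).lTensor M x = 0) → x = 0 := by
  simp only [IsMittagLeffler, injective_iff_map_eq_zero]
  refine forall₂_congr fun ι Q => forall₂_congr fun _ _ => forall_congr' fun x => ?_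
  simp only [funext_iff, piRightHom_eq, Pi.zero_apply]

lemma ml_eq_zero (hM : IsMittagLeffler R M) {ι : Type u} {Q : ι → Type u}
    [∀ i, AddCommGroup (Q i)] [∀ i, Module R (Q i)] (x : M ⊗[R] (∀ i, Q i))
    (hx : ∀ i, (LinearMap.proj i : (∀ i, Q i) →ₗ[R] Q i).lTensor M x = 0) : x = 0 :=
  isML_iff.1 hM ι Q x hx

lemma ml_of_ui {f : M →ₗ[R] N} (hf : CAlgX.UniversallyInjective R f)
    (hN : IsMittagLeffler R N) : IsMittagLeffler R M := by
  rw [isML_iff]
  intro ι Q _ _ x hx
  apply (injective_iff_map_eq_zero _).1 (hf _)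
  refine ml_eq_zero hN _ fun i => ?_
  rw [lTensor_rTensor, hx i, map_zero]

lemma ml_of_equiv (e : M ≃ₗ[R] N) (hN : IsMittagLeffler R N) : IsMittagLeffler R M :=
  ml_of_ui (ui_of_linearEquiv e) hN

lemma ml_finsupp (α : Type u) : IsMittagLeffler R (α →₀ R) := by
  rw [isML_iff]
  intro ι Q _ _ x hx
  classical
  apply (TensorProduct.finsuppScalarLeft R (∀ i, Q i) α).injective
  rw [map_zero]
  ext a i
  rw [TensorProduct.finsuppScalarLeft_apply, Finsupp.zero_apply, Pi.zero_apply]
  have h2 := congrArg (fun z => TensorProduct.lid R (Q i)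
    ((Finsupp.lapply a : (α →₀ R) →ₗ[R] R).rTensor (Q i) z)) (hx i)
  simp only [← lTensor_rTensor, map_zero] at h2
  rw [← h2]
  generalize (Finsupp.lapply a : (α →₀ R) →ₗ[R] R).rTensor (∀ i, Q i) x = z
  induction z with
  | zero => simp
  | tmul r q => simp
  | add a b ha hb => simp [ha, hb]

lemma ml_of_projective [Module.Projective R M] : IsMittagLeffler R M := by
  obtain ⟨s, hs⟩ := Module.Projective.out (R := R) (P := M)
  exact ml_of_ui (ui_of_leftInverse (Finsupp.linearCombination R id) (LinearMap.ext hs))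
    (ml_finsupp M)

/-- Extensions along universally injective maps. -/
lemma ml_of_extension {M₃ : Type u} [AddCommGroup M₃] [Module R M₃]
    {f : M →ₗ[R] N} {g : N →ₗ[R] M₃} (hf : CAlgX.UniversallyInjective R f)
    (hg : Function.Surjective g) (hfg : LinearMap.range f = LinearMap.ker g)
    (h₁ : IsMittagLeffler R M) (h₃ : IsMittagLeffler R M₃) : IsMittagLeffler R N := by
  rw [isML_iff]
  intro ι Q _ _ x hx
  have hex : Function.Exact f g := LinearMap.exact_iff.2 hfg.symm
  obtain ⟨y, rfl⟩ : x ∈ LinearMap.range (f.rTensor (∀ i, Q i)) := by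
    rw [← (rTensor_exact (∀ i, Q i) hex hg).linearMap_ker_eq, LinearMap.mem_ker]
    refine ml_eq_zero h₃ _ fun i => ?_
    rw [lTensor_rTensor, hx i, map_zero]
  rw [ml_eq_zero h₁ y fun i => (injective_iff_map_eq_zero _).1 (hf _) _
    (by rw [← lTensor_rTensor, hx i]), map_zero]

/-- Quotient by a finitely generated submodule. -/
lemma ml_quotient (K : Submodule R M) (hK : K.FG) (hM : IsMittagLeffler R M) :
    IsMittagLeffler R (M ⧸ K) := by
  rw [isML_iff]
  intro ι Q _ _ x hx
  haveI : Module.Finite R K := Module.Finite.iff_fg.2 hK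
  obtain ⟨y, rfl⟩ := LinearMap.rTensor_surjective (∀ i, Q i) K.mkQ_surjective x
  have hex := fun X : Type u => fun (_ : AddCommGroup X) (_ : Module R X) =>
    rTensor_exact X (LinearMap.exact_subtype_mkQ K) K.mkQ_surjective
  have : ∀ i, ∃ z : K ⊗[R] Q i,
      K.subtype.rTensor (Q i) z = (LinearMap.proj i : (∀ i, Q i) →ₗ[R] Q i).lTensor M y := by
    intro i
    refine ((hex (Q i) _ _) _).1 ?_
    rw [← lTensor_rTensor, hx i]
  choose z hz using this
  obtain ⟨w, hw⟩ := exists_preimage_pi z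
  have h0 : y - K.subtype.rTensor _ w = 0 := ml_eq_zero hM _ fun i => by
    rw [map_sub, lTensor_rTensor, hw i, hz i, sub_self]
  rw [sub_eq_zero.1 h0]
  exact ((hex (∀ i, Q i) _ _) _).2 ⟨w, rfl⟩

lemma ml_of_finitePresentation [Module.FinitePresentation R M] : IsMittagLeffler R M := by
  obtain ⟨n, K, e, hK⟩ := Module.FinitePresentation.exists_fin R M
  exact ml_of_equiv e (ml_quotient K hK ml_of_projective)

/-- Simultaneous factorisation of a family of tensors killed by `f`. -/
lemma ml_dominate_family (hM : IsMittagLeffler R M) [Module.FinitePresentation R P]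
    (f : P →ₗ[R] M) {α : Type u} (Q : α → Type u) [∀ a, AddCommGroup (Q a)]
    [∀ a, Module R (Q a)] (x : ∀ a, P ⊗[R] Q a) (hx : ∀ a, f.rTensor (Q a) (x a) = 0) :
    ∃ (P' : Type u) (_ : AddCommGroup P') (_ : Module R P') (_ : Module.FinitePresentation R P')
      (g : P →ₗ[R] P') (h : P' →ₗ[R] M), f = h ∘ₗ g ∧ ∀ a, g.rTensor (Q a) (x a) = 0 := by
  obtain ⟨x₀, hx₀⟩ := exists_preimage_pi x
  have hfx₀ : f.rTensor (∀ a, Q a) x₀ = 0 := ml_eq_zero hM _ fun a => by
    rw [lTensor_rTensor, hx₀ a, hx a]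
  obtain ⟨P', _, _, hfp, g, h, hfac, hgx⟩ := exists_factor_of_ker f x₀ hfx₀
  exact ⟨P', inferInstance, inferInstance, hfp, g, h, hfac, fun a => by
    rw [← hx₀ a, ← lTensor_rTensor, hgx, map_zero]⟩

/-- The domination property of Mittag-Leffler modules. -/
lemma ml_dominate (hM : IsMittagLeffler R M) [Module.FinitePresentation R P] (f : P →ₗ[R] M) :
    ∃ (Q : Type u) (_ : AddCommGroup Q) (_ : Module R Q) (_ : Module.FinitePresentation R Q)
      (g : P →ₗ[R] Q) (h : Q →ₗ[R] M), f = h ∘ₗ g ∧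
      ∀ (N : Type u) [AddCommGroup N] [Module R N] (x : P ⊗[R] N),
        f.rTensor N x = 0 → g.rTensor N x = 0 := by
  obtain ⟨P', _, _, hfp, g, h, hfac, hg⟩ := ml_dominate_family hM f
    (α := Σ n : ℕ, Σ K : {K : Submodule R (Fin n → R) // K.FG},
      {x : P ⊗[R] ((Fin n → R) ⧸ K.1) // f.rTensor _ x = 0})
    (fun a => (Fin a.1 → R) ⧸ a.2.1.1) (fun a => a.2.2.1) (fun a => a.2.2.2)
  refine ⟨P', inferInstance, inferInstance, hfp, g, h, hfac, fun N _ _ x hx => ?_⟩
  obtain ⟨N', _, _, hN', φ, x', hx', rfl⟩ := exists_rel_of_ker f x hx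
  obtain ⟨n, K, e, hK⟩ := Module.FinitePresentation.exists_fin R N'
  have h0 : f.rTensor _ (e.toLinearMap.lTensor P x') = 0 := by
    rw [← lTensor_rTensor, hx', map_zero]
  have h1 : g.rTensor ((Fin n → R) ⧸ K) (e.toLinearMap.lTensor P x') = 0 :=
    hg ⟨n, ⟨K, hK⟩, ⟨e.toLinearMap.lTensor P x', h0⟩⟩
  rw [← lTensor_rTensor] at h1
  rw [← lTensor_rTensor, (e.lTensor P').injective (h1.trans (map_zero (e.lTensor P')).symm),
    map_zero]

/-- `f ⊗ N` and `g ⊗ N` have the same kernels when `f` factors through `g` and `g` is dominated. -/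
lemma ker_eq_of_factor {Q : Type u} [AddCommGroup Q] [Module R Q] {f : P →ₗ[R] M} {g : P →ₗ[R] Q}
    {h : Q →ₗ[R] M} (hfac : f = h ∘ₗ g) (X : Type u) [AddCommGroup X] [Module R X]
    (hdom : ∀ x : P ⊗[R] X, f.rTensor X x = 0 → g.rTensor X x = 0) :
    LinearMap.ker (f.rTensor X) = LinearMap.ker (g.rTensor X) := by
  refine le_antisymm (fun x hx => hdom x hx) fun x hx => ?_
  rw [LinearMap.mem_ker] at hx ⊢
  rw [hfac, LinearMap.rTensor_comp, LinearMap.comp_apply, hx, map_zero]

/-- Criterion: every tensor lies in the image of a dominated map. -/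
lemma ml_of_forall_dominate
    (H : ∀ (X : Type u) [AddCommGroup X] [Module R X] (x : M ⊗[R] X),
      ∃ (P : Type u) (_ : AddCommGroup P) (_ : Module R P) (f : P →ₗ[R] M)
        (Q : Type u) (_ : AddCommGroup Q) (_ : Module R Q) (_ : Module.FinitePresentation R Q)
        (g : P →ₗ[R] Q), x ∈ LinearMap.range (f.rTensor X) ∧
          ∀ (N : Type u) [AddCommGroup N] [Module R N],
            LinearMap.ker (f.rTensor N) = LinearMap.ker (g.rTensor N)) :
    IsMittagLeffler R M := by
  rw [isML_iff]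
  intro ι Q _ _ x hx
  obtain ⟨P, _, _, f, G, _, _, hG, g, ⟨y, rfl⟩, hker⟩ := H (∀ i, Q i) x
  have : g.rTensor _ y = 0 := ml_eq_zero (ml_of_finitePresentation (M := G)) _ fun i => by
    rw [lTensor_rTensor, ← LinearMap.mem_ker, ← hker, LinearMap.mem_ker, ← lTensor_rTensor, hx i]
  rwa [← LinearMap.mem_ker, hker, LinearMap.mem_ker]

/-- Criterion with finite free sources. -/
lemma ml_of_dominate (H : ∀ (n : ℕ) (f : (Fin n → R) →ₗ[R] M),
      ∃ (Q : Type u) (_ : AddCommGroup Q) (_ : Module R Q) (_ : Module.FinitePresentation R Q)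
        (g : (Fin n → R) →ₗ[R] Q),
        ∀ (N : Type u) [AddCommGroup N] [Module R N],
          LinearMap.ker (f.rTensor N) = LinearMap.ker (g.rTensor N)) :
    IsMittagLeffler R M := by
  refine ml_of_forall_dominate fun X _ _ x => ?_
  obtain ⟨n, m, q, rfl⟩ := TensorProduct.exists_sum_tmul_eq x
  obtain ⟨Q, _, _, hQ, g, hg⟩ := H n (Fintype.linearCombination R m)
  exact ⟨_, inferInstance, inferInstance, _, Q, inferInstance, inferInstance, hQ, g,
    ⟨∑ i, Pi.single i 1 ⊗ₜ q i, by
      classical simp [Fintype.linearCombination_apply_single]⟩, hg⟩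

end Groth.MLMod

namespace Groth.MLMod

universe v

open TensorProduct in
/-- Tensor products of finitely presented modules are finitely presented. -/
lemma finitePresentation_tensor {R : Type v} [CommRing R] (G G' : Type v) [AddCommGroup G]
    [Module R G] [Module.FinitePresentation R G] [AddCommGroup G'] [Module R G']
    [Module.FinitePresentation R G'] : Module.FinitePresentation R (G ⊗[R] G') := by
  obtain ⟨n, m, e, t, he, hte⟩ := Module.FinitePresentation.exists_fin' R G
  classical
  have : Module.FinitePresentation R ((Fin n → R) ⊗[R] G') :=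
    Module.FinitePresentation.of_equiv
      ((TensorProduct.comm R (Fin n → R) G') ≪≫ₗ TensorProduct.piScalarRight R R G' (Fin n)).symm
  refine Module.finitePresentation_of_surjective _ (LinearMap.rTensor_surjective G' he) ?_
  rw [(rTensor_exact G' hte he).linearMap_ker_eq, LinearMap.range_eq_map]
  exact Module.Finite.fg_top.map _

end Groth.MLMod
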