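import Groth.Agent.MLMod.NilFlat

/-!
# Bases along nilpotent ideals
-/

namespace Groth.MLMod

universe u

open TensorProduct

variable {R : Type u} [CommRing R] {M : Type u} [AddCommGroup M] [Module R M]

lemma mk_smul_one_tmul (I : Ideal R) (r : R) (m : M) :
    Ideal.Quotient.mk I r • ((1 : R ⧸ I) ⊗ₜ[R] m) = (1 : R ⧸ I) ⊗ₜ[R] (r • m) := by
  rw [smul_tmul', smul_eq_mul, mul_one, tmul_smul, smul_tmul', Algebra.smul_def, mul_one]
  rfl

/-- Generators modulo a nilpotent ideal generate. -/
lemma span_eq_top_of_nilpotent (I : Ideal R) (hI : IsNilpotent I) {A : Type u} (x : A → M)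
    (hsp : Submodule.span (R ⧸ I) (Set.range fun a => (1 : R ⧸ I) ⊗ₜ[R] x a) = ⊤) :
    Submodule.span R (Set.range x) = ⊤ := by
  set P := Submodule.span R (Set.range x)
  let W : Submodule R M := P ⊔ I • ⊤
  let θ : (R ⧸ I) ⊗[R] M →ₗ[R] M ⧸ W :=
    Submodule.mapQ (I • ⊤) W LinearMap.id le_sup_right ∘ₗ
      (TensorProduct.quotTensorEquivQuotSMul M I).toLinearMap
  have hθ : ∀ m, θ ((1 : R ⧸ I) ⊗ₜ[R] m) = Submodule.Quotient.mk m := fun m => by
    simp [θ]
  have hspR : Submodule.span R (Set.range fun a => (1 : R ⧸ I) ⊗ₜ[R] x a) = ⊤ := by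
    rw [← Submodule.restrictScalars_span R (R ⧸ I) Ideal.Quotient.mk_surjective, hsp,
      Submodule.restrictScalars_top]
  have hker : LinearMap.ker θ = ⊤ := by
    rw [eq_top_iff, ← hspR, Submodule.span_le]
    rintro _ ⟨a, rfl⟩
    rw [SetLike.mem_coe, LinearMap.mem_ker, hθ, Submodule.Quotient.mk_eq_zero]
    exact Submodule.mem_sup_left (Submodule.subset_span ⟨a, rfl⟩)
  have hW : W = ⊤ := by
    rw [eq_top_iff]
    intro m _
    rw [← Submodule.Quotient.mk_eq_zero, ← hθ m, ← LinearMap.mem_ker, hker]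
    exact Submodule.mem_top
  have h : (⊤ : Submodule R (M ⧸ P)) ≤ I • ⊤ := by
    have := congrArg (Submodule.map P.mkQ) hW
    rw [Submodule.map_sup, Submodule.map_smul'', Submodule.map_top, Submodule.range_mkQ,
      (Submodule.map P.mkQ P).eq_bot_iff.2 ?_, bot_sup_eq] at this
    · exact this.ge
    · rintro _ ⟨p, hp, rfl⟩
      exact (Submodule.Quotient.mk_eq_zero P).2 hp
  have h0 := eq_bot_of_le_smul_nilpotent I hI h
  rw [eq_top_iff]
  intro m _
  have : (Submodule.Quotient.mk m : M ⧸ P) ∈ (⊥ : Submodule R (M ⧸ P)) := h0 ▸ Submodule.mem_top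
  rwa [Submodule.mem_bot, Submodule.Quotient.mk_eq_zero] at this

/-- If `I ⊗ M → M` is injective, `ker L ∩ IF = I ker L` for surjective `L : F → M`. -/
lemma ker_inf_smul_le (I : Ideal R) (htor : Function.Injective (I.subtype.rTensor M)) {F : Type u}
    [AddCommGroup F] [Module R F] (L : F →ₗ[R] M) (hLs : Function.Surjective L) :
    LinearMap.ker L ⊓ I • ⊤ ≤ I • LinearMap.ker L := by
  intro z hz
  let μ : I ⊗[R] F →ₗ[R] F := (TensorProduct.lid R F).toLinearMap ∘ₗ I.subtype.rTensor F
  have hμ : ∀ (i : I) (y : F), μ (i ⊗ₜ[R] y) = (i : R) • y := fun i y => by simp [μ]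
  have hsub : I • (⊤ : Submodule R F) ≤ LinearMap.range μ :=
    Submodule.smul_le.2 fun r hr y _ => ⟨⟨r, hr⟩ ⊗ₜ[R] y, hμ _ y⟩
  obtain ⟨w, hw⟩ := hsub hz.2
  have hnat : ∀ v, TensorProduct.lid R M (I.subtype.rTensor M (L.lTensor I v)) = L (μ v) := by
    intro v
    induction v with
    | zero => simp
    | tmul i y => simp [hμ]
    | add a b ha hb => simp only [map_add, ha, hb]
  have hLw : L.lTensor I w = 0 := by
    apply htor
    apply (TensorProduct.lid R M).injective
    rw [hnat, hw, LinearMap.mem_ker.1 hz.1, map_zero, map_zero]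
  obtain ⟨k, rfl⟩ := (lTensor_exact I (LinearMap.exact_subtype_ker_map L) hLs _).1 hLw
  rw [← hw]
  clear hw hLw
  induction k with
  | zero => simp
  | tmul i y =>
    rw [LinearMap.lTensor_tmul, hμ]
    exact Submodule.smul_mem_smul i.2 y.2
  | add a b ha hb =>
    rw [map_add, map_add]
    exact add_mem ha hb

/-- Independence modulo a nilpotent ideal lifts when `I ⊗ M → M` is injective and the family
generates. -/
lemma linearIndependent_of_nilpotent (I : Ideal R) (hI : IsNilpotent I)
    (htor : Function.Injective (I.subtype.rTensor M)) {A : Type u} (x : A → M)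
    (hli : LinearIndependent (R ⧸ I) fun a => (1 : R ⧸ I) ⊗ₜ[R] x a)
    (hsp : Submodule.span R (Set.range x) = ⊤) : LinearIndependent R x := by
  classical
  let L : (A →₀ R) →ₗ[R] M := Finsupp.linearCombination R x
  have hLs : Function.Surjective L := by
    rw [← LinearMap.range_eq_top, Finsupp.range_linearCombination, hsp]
  suffices h : LinearMap.ker L ≤ I • LinearMap.ker L by
    have h0 := eq_bot_of_le_smul_nilpotent I hI h
    rw [linearIndependent_iff]
    intro l hl
    exact (Submodule.mem_bot R).1 (h0 ▸ hl)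
  intro z hz
  refine ker_inf_smul_le I htor L hLs ⟨hz, ?_⟩
  have hz0 : ∑ a ∈ z.support, z a • x a = 0 := hz
  rw [← Finsupp.sum_single z]
  refine sum_mem fun a ha => ?_
  have hmem : z a ∈ I := by
    rw [← Ideal.Quotient.eq_zero_iff_mem]
    refine linearIndependent_iff'.1 hli z.support (fun a => Ideal.Quotient.mk I (z a)) ?_ a ha
    simp only [mk_smul_one_tmul, ← tmul_sum, hz0, tmul_zero]
  show Finsupp.single a (z a) ∈ I • (⊤ : Submodule R (A →₀ R))
  rw [← Finsupp.smul_single_one]
  exact Submodule.smul_mem_smul hmem Submodule.mem_top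

/-- `S6351`. -/
theorem basis_of_nilpotent (I : Ideal R) (hI : IsNilpotent I)
    (htor : Function.Injective (I.subtype.rTensor M)) {A : Type u} (x : A → M)
    (hli : LinearIndependent (R ⧸ I) fun a => (1 : R ⧸ I) ⊗ₜ[R] x a)
    (hsp : Submodule.span (R ⧸ I) (Set.range fun a => (1 : R ⧸ I) ⊗ₜ[R] x a) = ⊤) :
    LinearIndependent R x ∧ Submodule.span R (Set.range x) = ⊤ :=
  have h := span_eq_top_of_nilpotent I hI x hsp
  ⟨linearIndependent_of_nilpotent I hI htor x hli h, h⟩

end Groth.MLMod
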