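import Groth.Agent.MLMod.NilFlat
import Mathlib.RingTheory.Flat.Stability

/-!
# Flatness along a nilpotent ideal and an injective ring map
-/

namespace Groth.MLMod

universe u

open TensorProduct

variable {R : Type u} [CommRing R] {M : Type u} [AddCommGroup M] [Module R M]

/-- `S`-linear injections stay injective after tensoring with `M` if `S ⊗ M` is `S`-flat. -/
lemma rTensor_injective_of_flat_baseChange (S : Type u) [CommRing S] [Algebra R S]
    [Module.Flat S (S ⊗[R] M)] {X Y : Type u}
    [AddCommGroup X] [Module R X] [Module S X] [IsScalarTower R S X]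
    [AddCommGroup Y] [Module R Y] [Module S Y] [IsScalarTower R S Y]
    (φ : X →ₗ[S] Y) (hφ : Function.Injective φ) :
    Function.Injective ((φ.restrictScalars R).rTensor M) := by
  let eX := AlgebraTensorModule.cancelBaseChange R S S X M
  let eY := AlgebraTensorModule.cancelBaseChange R S S Y M
  have hnat : ∀ w, (φ.restrictScalars R).rTensor M (eX w) = eY (φ.rTensor _ w) := by
    intro w
    induction w with
    | zero => simp
    | tmul a b =>
      induction b with
      | zero => simp
      | tmul s m => simp [eX, eY]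
      | add a b ha hb => simp only [tmul_add, map_add, ha, hb]
    | add a b ha hb => simp only [map_add, ha, hb]
  rw [injective_iff_map_eq_zero]
  intro x hx
  obtain ⟨w, rfl⟩ := eX.surjective x
  rw [hnat] at hx
  rw [(injective_iff_map_eq_zero _).1 (Module.Flat.rTensor_preserves_injective_linearMap φ hφ) w
    ((LinearEquiv.map_eq_zero_iff eY).1 hx), map_zero]

/-- Injections of modules killed by `J` stay injective if `M/JM` is flat over `R/J`. -/
lemma rTensor_injective_of_killed (J : Ideal R) [Module.Flat (R ⧸ J) ((R ⧸ J) ⊗[R] M)]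
    {X Y : Type u} [AddCommGroup X] [Module R X] [AddCommGroup Y] [Module R Y]
    (hY : ∀ r ∈ J, ∀ y : Y, r • y = 0) (f : X →ₗ[R] Y) (hf : Function.Injective f) :
    Function.Injective (f.rTensor M) := by
  have hTY : Module.IsTorsionBySet R Y (J : Set R) := fun y r => hY r.1 r.2 y
  have hTX : Module.IsTorsionBySet R X (J : Set R) := fun x r =>
    hf ((map_smul f r.1 x).trans ((hY r.1 r.2 _).trans (map_zero f).symm))
  letI : Module (R ⧸ J) Y := hTY.module
  haveI : IsScalarTower R (R ⧸ J) Y := hTY.isScalarTower
  letI : Module (R ⧸ J) X := hTX.module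
  haveI : IsScalarTower R (R ⧸ J) X := hTX.isScalarTower
  let φ : X →ₗ[R ⧸ J] Y :=
    { toFun := f
      map_add' := map_add f
      map_smul' := fun c x => by
        obtain ⟨r, rfl⟩ := Ideal.Quotient.mk_surjective c
        exact map_smul f r x }
  exact rTensor_injective_of_flat_baseChange (R ⧸ J) (M := M) φ hf

/-- Flatness modulo a smaller ideal gives flatness modulo a larger one. -/
lemma flat_quotient_of_le {I J : Ideal R} (h : I ≤ J) [Module.Flat (R ⧸ I) ((R ⧸ I) ⊗[R] M)] :
    Module.Flat (R ⧸ J) ((R ⧸ J) ⊗[R] M) := by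
  letI : Algebra (R ⧸ I) (R ⧸ J) := (Ideal.Quotient.factor h).toAlgebra
  haveI : IsScalarTower R (R ⧸ I) (R ⧸ J) := IsScalarTower.of_algebraMap_eq fun _ => rfl
  exact Module.Flat.of_linearEquiv
    (AlgebraTensorModule.cancelBaseChange R (R ⧸ I) (R ⧸ J) (R ⧸ J) M).symm

/-- `S6352`. -/
theorem flat_of_nilpotent_of_injective {R' : Type u} [CommRing R'] [Algebra R R']
    (hinj : Function.Injective (algebraMap R R')) (I : Ideal R) (hI : IsNilpotent I)
    [Module.Flat (R ⧸ I) ((R ⧸ I) ⊗[R] M)] [Module.Flat R' (R' ⊗[R] M)] :
    Module.Flat R M := by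
  obtain ⟨n, hn⟩ := hI
  let K : ℕ → Ideal R' := fun k => (I.map (algebraMap R R')) ^ k
  let J : ℕ → Ideal R := fun k => (K k).comap (algebraMap R R')
  let ι : ∀ k, J k →ₗ[R] R' := fun k => Algebra.linearMap R R' ∘ₗ (J k).subtype
  have hbot : ∀ k, n ≤ k → K k = ⊥ := by
    intro k hk
    show (I.map (algebraMap R R')) ^ k = ⊥
    rw [← Ideal.map_pow, eq_bot_iff, ← Ideal.map_bot (f := algebraMap R R')]
    exact Ideal.map_mono ((Ideal.pow_le_pow_right hk).trans hn.le)
  have hI1 : I ≤ J 1 := by
    intro r hr
    simpa [J, K] using Ideal.mem_map_of_mem (algebraMap R R') hr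
  haveI : Module.Flat (R ⧸ J 1) ((R ⧸ J 1) ⊗[R] M) := flat_quotient_of_le hI1
  have key : ∀ d k, n ≤ k + d → Function.Injective ((ι k).rTensor M) := by
    intro d
    induction d with
    | zero =>
      intro k hk x y _
      have h0 : ∀ z : J k ⊗[R] M, z = 0 := by
        intro z
        induction z with
        | zero => rfl
        | tmul i m =>
          have : i = 0 := Subtype.ext (hinj (by
            have h := i.2
            simp only [J, Ideal.mem_comap, hbot k hk, Ideal.mem_bot] at h
            simpa using h))
          rw [this, zero_tmul]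
        | add a b ha hb => rw [ha, hb, add_zero]
      rw [h0 x, h0 y]
    | succ d ih =>
      intro k hk
      rw [injective_iff_map_eq_zero]
      intro x hx
      -- `J k → K k → K k / K (k+1)`
      let κ : J k →ₗ[R] K k :=
        { toFun := fun z => ⟨algebraMap R R' z.1, z.2⟩
          map_add' := fun a b => Subtype.ext (map_add _ _ _)
          map_smul' := fun r a => Subtype.ext (by
            show algebraMap R R' (r * a.1) = r • algebraMap R R' a.1
            rw [Algebra.smul_def, map_mul]) }
      have hκ : κ.rTensor M x = 0 := by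
        apply rTensor_injective_of_flat_baseChange R' (M := M) (K k).subtype (K k).injective_subtype
        rw [map_zero, ← LinearMap.rTensor_comp_apply,
          show (K k).subtype.restrictScalars R ∘ₗ κ = ι k from rfl, hx]
      let V' : Submodule R' (K k) := Submodule.comap (K k).subtype (K (k + 1))
      let ψ : J k →ₗ[R] (K k) ⧸ V' := V'.mkQ.restrictScalars R ∘ₗ κ
      have hV : ∀ r ∈ J 1, ∀ v : (K k) ⧸ V', r • v = 0 := by
        intro r hr v
        obtain ⟨v, rfl⟩ := Submodule.Quotient.mk_surjective _ v
        rw [← Submodule.Quotient.mk_smul, Submodule.Quotient.mk_eq_zero]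
        show r • (v : R') ∈ K (k + 1)
        rw [Algebra.smul_def]
        have h1 : algebraMap R R' r ∈ K 1 := hr
        simpa [K, pow_succ'] using Ideal.mul_mem_mul h1 v.2
      have hψ : ψ.rangeRestrict.rTensor M x = 0 := by
        apply rTensor_injective_of_killed (M := M) (J 1) hV (LinearMap.range ψ).subtype
          Subtype.val_injective
        rw [map_zero, ← LinearMap.rTensor_comp_apply,
          show (LinearMap.range ψ).subtype ∘ₗ ψ.rangeRestrict = V'.mkQ.restrictScalars R ∘ₗ κ from rfl,
          LinearMap.rTensor_comp_apply, hκ, map_zero]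
      obtain ⟨y, rfl⟩ := (rTensor_exact M (LinearMap.exact_subtype_ker_map ψ.rangeRestrict)
        ψ.surjective_rangeRestrict _).1 hψ
      have hker : ∀ z : LinearMap.ker ψ.rangeRestrict, z.1.1 ∈ J (k + 1) := fun z =>
        (Submodule.Quotient.mk_eq_zero V').1 (congrArg Subtype.val z.2)
      let θ : LinearMap.ker ψ.rangeRestrict →ₗ[R] J (k + 1) :=
        { toFun := fun z => ⟨z.1.1, hker z⟩
          map_add' := fun _ _ => rfl
          map_smul' := fun _ _ => rfl }
      have hle : J (k + 1) ≤ J k := Ideal.comap_mono (Ideal.pow_le_pow_right k.le_succ)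
      have hθ : (LinearMap.ker ψ.rangeRestrict).subtype = Submodule.inclusion hle ∘ₗ θ := rfl
      have hy : θ.rTensor M y = 0 := by
        apply ih (k + 1) (by omega)
        rw [map_zero, ← LinearMap.rTensor_comp_apply,
          show ι (k + 1) ∘ₗ θ = ι k ∘ₗ (LinearMap.ker ψ.rangeRestrict).subtype from rfl,
          LinearMap.rTensor_comp_apply, hx]
      rw [hθ, LinearMap.rTensor_comp_apply, hy, map_zero]
  refine flat_of_torZero_nilpotent (J 1) ⟨n, ?_⟩ ?_
  · show J 1 ^ n = ⊥
    rw [eq_bot_iff]
    intro r hr
    rw [Submodule.mem_bot]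
    apply hinj
    rw [map_zero, ← Ideal.mem_bot, ← hbot n le_rfl]
    have := Ideal.mem_map_of_mem (algebraMap R R') hr
    rw [Ideal.map_pow] at this
    exact Ideal.pow_right_mono (by simpa [J, K] using Ideal.map_comap_le) n this
  · have h := key n 1 (by omega)
    simp only [ι, LinearMap.rTensor_comp] at h
    exact Function.Injective.of_comp h

end Groth.MLMod
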