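import Groth.Agent.MLMod.CG
import Mathlib.LinearAlgebra.Finsupp.Pi
import Mathlib.Algebra.Module.Projective
import Mathlib.RingTheory.Finiteness.Basic

/-!
# Projective modules are direct sums of countably generated ones
-/

namespace Groth.MLMod

universe u

variable {R : Type u} [CommRing R] {M : Type u} [AddCommGroup M] [Module R M]

/-- Transport a family below `P` to submodules of `P`. -/
lemma isInternal_comap {P : Submodule R M} {L : Set (Submodule R M)} [DecidableEq L] (hL : sSupIndep L)
    (hsup : sSup L = P) :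
    DirectSum.IsInternal fun l : L => l.1.comap P.subtype := by
  rw [DirectSum.isInternal_submodule_iff_iSupIndep_and_iSup_eq_top]
  have hle : ∀ l : L, l.1 ≤ P := fun l => hsup ▸ le_sSup l.2
  have hmap : ∀ l : L, (l.1.comap P.subtype).map P.subtype = l.1 := fun l =>
    Submodule.map_comap_eq_self (by rw [Submodule.range_subtype]; exact hle l)
  refine ⟨fun l => ?_, ?_⟩
  · rw [disjoint_iff_inf_le]
    rintro x ⟨h1, h2⟩
    have h2' := Submodule.mem_map_of_mem (f := P.subtype) h2
    simp only [Submodule.map_iSup, hmap] at h2'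
    have := Submodule.disjoint_def.1 ((sSupIndep_iff _).1 hL l) _ h1 h2'
    exact Subtype.ext this
  · apply Submodule.map_injective_of_injective P.injective_subtype
    rw [Submodule.map_top, Submodule.range_subtype, Submodule.map_iSup]
    simp only [hmap]
    rw [← sSup_eq_iSup', hsup]

lemma isCountablyGenerated_comap {P l : Submodule R M} (hlP : l ≤ P) (h : SubCG l) :
    CAlg.IsCountablyGenerated R (l.comap P.subtype) := by
  rw [← subCG_iff]
  obtain ⟨s, hs, rfl⟩ := h
  refine ⟨Subtype.val ⁻¹' s, hs.preimage Subtype.val_injective, ?_⟩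
  apply Submodule.map_injective_of_injective P.injective_subtype
  rw [Submodule.map_span, Submodule.map_comap_eq_self (by rw [Submodule.range_subtype]; exact hlP)]
  congr 1
  ext x
  simp only [Set.mem_image, Set.mem_preimage, Submodule.coe_subtype]
  exact ⟨fun ⟨y, hy, he⟩ => he ▸ hy, fun hx => ⟨⟨x, hlP (Submodule.subset_span hx)⟩, hx, rfl⟩⟩

/-- A projective module is a direct sum of countably generated submodules. -/
lemma exists_decomposition_of_projective [Module.Projective R M] :
    ∃ (L : Set (Submodule R M)), sSupIndep L ∧ sSup L = ⊤ ∧ ∀ l ∈ L, SubCG l := by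
  classical
  obtain ⟨s, hs⟩ := Module.Projective.out (R := R) (P := M)
  let p := Finsupp.linearCombination R (id : M → M)
  let N : M → Submodule R (M →₀ R) := fun m => LinearMap.range (Finsupp.lsingle (R := R) m)
  have hN : iSupIndep N := fun i => by
    have := Finsupp.disjoint_lsingle_lsingle (M := R) (R := R) ({i} : Set M) {i}ᶜ
      disjoint_compl_right
    simpa [N] using this
  obtain ⟨L, hind, hsup, hcg⟩ := kaplansky hN Finsupp.iSup_lsingle_range
    (fun m => ⟨{Finsupp.single m 1}, Set.countable_singleton _, by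
      show Submodule.span R {Finsupp.single m (1 : R)} = LinearMap.range (Finsupp.lsingle m)
      refine le_antisymm (Submodule.span_le.2 ?_) ?_
      · rintro _ rfl
        exact ⟨1, rfl⟩
      · rintro _ ⟨r, rfl⟩
        refine Submodule.mem_span_singleton.2 ⟨r, ?_⟩
        simp⟩)
    (s ∘ₗ p) (fun x => by show s (p (s (p x))) = s (p x); rw [hs])
  have hps : p ∘ₗ s = LinearMap.id := LinearMap.ext hs
  have hback : ∀ l ∈ L, (l.map p).map s = l := by
    intro l hl
    ext x
    constructor
    · rintro ⟨_, ⟨y, hy, rfl⟩, rfl⟩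
      obtain ⟨z, hz⟩ := (hsup ▸ le_sSup hl : l ≤ LinearMap.range (s ∘ₗ p)) hy
      rw [← hz, LinearMap.comp_apply, hs]
      rw [← LinearMap.comp_apply, hz]
      exact hy
    · intro hx
      obtain ⟨z, hz⟩ := (hsup ▸ le_sSup hl : l ≤ LinearMap.range (s ∘ₗ p)) hx
      exact ⟨p x, ⟨x, hx, rfl⟩, by rw [← hz, LinearMap.comp_apply, hs]⟩
  refine ⟨(Submodule.map p) '' L, ?_, ?_, ?_⟩
  · rintro _ ⟨l, hl, rfl⟩
    rw [Submodule.disjoint_def]
    intro x hx1 hx2
    have h1 : s x ∈ l := (hback l hl).le ⟨x, hx1, rfl⟩
    have h2 : s x ∈ sSup (L \ {l}) := by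
      have := Submodule.mem_map_of_mem (f := s) hx2
      simp only [sSup_eq_iSup, Submodule.map_iSup] at this
      refine SetLike.le_def.1 (iSup₂_le ?_) this
      rintro a ⟨⟨l', hl', rfl⟩, hne⟩
      rw [hback l' hl']
      exact le_sSup ⟨hl', fun h => hne (by simp [Set.mem_singleton_iff.1 h])⟩
    have := Submodule.disjoint_def.1 (hind hl) _ h1 h2
    rw [← hs x, this, map_zero]
  · have : (sSup L).map p = ⊤ := by
      rw [hsup, LinearMap.range_comp, ← Submodule.map_comp, hps, Submodule.map_id,
        LinearMap.range_eq_top]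
      exact Finsupp.linearCombination_id_surjective R M
    rw [← this, sSup_image, sSup_eq_iSup]
    simp only [Submodule.map_iSup]
  · rintro _ ⟨l, hl, rfl⟩
    exact (hcg l hl).map p

end Groth.MLMod
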