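import Groth.Agent.MLMod.Basic
import Mathlib.LinearAlgebra.DFinsupp

/-!
# Pure covers by finitely presented modules
-/

namespace Groth.MLMod

universe u

variable {R : Type u} [CommRing R] {M : Type u} [AddCommGroup M] [Module R M]

lemma ui_ker_lsum {ι : Type u} [DecidableEq ι] {Q : ι → Type u} [∀ i, AddCommGroup (Q i)]
    [∀ i, Module R (Q i)] (φ : ∀ i, Q i →ₗ[R] M)
    (H : ∀ (m n : ℕ) (b : Fin m → Fin n → R) (k : Rel b →ₗ[R] M),
      ∃ (i : ι) (ψ : Rel b →ₗ[R] Q i), φ i ∘ₗ ψ = k)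
    (g : (Π₀ i, Q i) →ₗ[R] M) (hg : ∀ i q, g (DFinsupp.single i q) = φ i q) :
    CAlgX.UniversallyInjective R (LinearMap.ker g).subtype := by
  refine ui_of_equational fun n m x y a h => ?_
  let b : Fin m → Fin n → R := fun j i => a i j
  have hrel : ∀ i, ∑ j, b j i • g (y j) = 0 := by
    intro i
    have := congrArg g (h i)
    rw [Submodule.subtype_apply, map_sum, LinearMap.mem_ker.1 (x i).2] at this
    simpa [b] using this.symm
  obtain ⟨i₀, ψ, hψ⟩ := H m n b (liftRel b (fun j => g (y j)) hrel)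
  let w : Fin m → Π₀ i, Q i := fun j => DFinsupp.single i₀ (ψ (gen b j))
  have hw : ∀ j, g (w j) = g (y j) := fun j => by
    rw [hg, ← LinearMap.comp_apply, hψ, liftRel_gen]
  refine ⟨fun j => ⟨y j - w j, by rw [LinearMap.mem_ker, map_sub, hw, sub_self]⟩, fun i => ?_⟩
  apply Subtype.ext
  have h0 : ∑ j, a i j • w j = 0 := by
    have := congrArg ((DFinsupp.lsingle i₀ : Q i₀ →ₗ[R] Π₀ i, Q i) ∘ₗ ψ) (sum_relation b i)
    rw [map_sum, map_zero] at this
    simp only [map_smul] at this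
    exact this
  rw [← Submodule.subtype_apply, h i]
  simp [smul_sub, Finset.sum_sub_distrib, h0]

end Groth.MLMod
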