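import Groth.Agent.MLMod.ML

/-!
# Splitting of universally injective maps and factorisation of dominated maps
-/

namespace Groth.MLMod

universe u

open TensorProduct

variable {R : Type u} [CommRing R]

variable {M N P : Type u} [AddCommGroup M] [Module R M] [AddCommGroup N] [Module R N]
  [AddCommGroup P] [Module R P]

/-- A universally exact sequence with finitely presented cokernel splits. -/
lemma exists_section_of_ui {f : M →ₗ[R] N} {g : N →ₗ[R] P} [Module.FinitePresentation R P]
    (hexact : Function.Exact f g) (hg : Function.Surjective g)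
    (hf : CAlgX.UniversallyInjective R f) : ∃ s : P →ₗ[R] N, g ∘ₗ s = LinearMap.id := by
  classical
  obtain ⟨n, m, e, t, he, hte⟩ := Module.FinitePresentation.exists_fin' R P
  choose c hc using fun i : Fin n => hg (e (Pi.single i 1))
  let L : (Fin n → R) →ₗ[R] N := Fintype.linearCombination R c
  have hL : g ∘ₗ L = e := by
    refine LinearMap.pi_ext' fun i => LinearMap.ext_ring ?_
    simp [L, Fintype.linearCombination_apply_single, hc]
  have hx : ∀ j : Fin m, ∃ x, f x = L (t (Pi.single j 1)) := fun j =>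
    (hexact _).1 (by rw [← LinearMap.comp_apply, hL, hte.apply_apply_eq_zero])
  choose x hx using hx
  obtain ⟨z, hz⟩ := ui_equational hf (fun (j : Fin m) (i : Fin n) => t (Pi.single j 1) i) x c
    fun j => by rw [hx j]; simp [L, Fintype.linearCombination_apply]
  let L' : (Fin n → R) →ₗ[R] N := L - f ∘ₗ Fintype.linearCombination R z
  have hL' : LinearMap.ker e ≤ LinearMap.ker L' := by
    rw [hte.linearMap_ker_eq, LinearMap.range_le_ker_iff]
    refine LinearMap.pi_ext' fun j => LinearMap.ext_ring ?_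
    simp [L', Fintype.linearCombination_apply, ← hz j, hx j]
  refine ⟨(LinearMap.ker e).liftQ L' hL' ∘ₗ
    (LinearMap.quotKerEquivOfSurjective e he).symm.toLinearMap, ?_⟩
  refine LinearMap.ext fun p => ?_
  obtain ⟨w, rfl⟩ := he p
  have hw : (LinearMap.quotKerEquivOfSurjective e he).symm (e w) = Submodule.Quotient.mk w := by
    rw [LinearEquiv.symm_apply_eq]
    rfl
  simp only [LinearMap.comp_apply, LinearEquiv.coe_coe, LinearMap.id_coe, id_eq]
  rw [hw, Submodule.liftQ_apply]
  simp [L', hexact.apply_apply_eq_zero, ← hL]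

variable (f : M →ₗ[R] N) (g : M →ₗ[R] P)

/-- The pushout of `f` and `g` receives `P`. -/
noncomputable abbrev pushInl : P →ₗ[R] ((P × N) ⧸ LinearMap.range (g.prod (-f))) :=
  (LinearMap.range (g.prod (-f))).mkQ ∘ₗ LinearMap.inl R P N

lemma range_prod_exact :
    Function.Exact (g.prod (-f)) (LinearMap.range (g.prod (-f))).mkQ := by
  rw [LinearMap.exact_iff, Submodule.ker_mkQ]

lemma ker_rTensor_pushInl (X : Type u) [AddCommGroup X] [Module R X] (v : P ⊗[R] X) :
    (pushInl f g).rTensor X v = 0 ↔ ∃ y, f.rTensor X y = 0 ∧ g.rTensor X y = v := by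
  have hex := rTensor_exact X (range_prod_exact f g) (Submodule.mkQ_surjective _)
  have e1 : ∀ y, (LinearMap.fst R P N).rTensor X ((g.prod (-f)).rTensor X y) = g.rTensor X y := by
    intro y; rw [← LinearMap.rTensor_comp_apply]; rfl
  have e2 : ∀ y, (LinearMap.snd R P N).rTensor X ((g.prod (-f)).rTensor X y) =
      -(f.rTensor X y) := by
    intro y
    rw [← LinearMap.rTensor_comp_apply, ← LinearMap.neg_apply, ← LinearMap.rTensor_neg]
    rfl
  constructor
  · intro hv
    rw [pushInl, LinearMap.rTensor_comp_apply, hex] at hv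
    obtain ⟨y, hy⟩ := hv
    refine ⟨y, ?_, ?_⟩
    · have := congrArg ((LinearMap.snd R P N).rTensor X) hy
      rw [e2, ← LinearMap.rTensor_comp_apply, LinearMap.snd_comp_inl, LinearMap.rTensor_zero,
        LinearMap.zero_apply, neg_eq_zero] at this
      exact this
    · have := congrArg ((LinearMap.fst R P N).rTensor X) hy
      rwa [e1, ← LinearMap.rTensor_comp_apply, LinearMap.fst_comp_inl, LinearMap.rTensor_id,
        LinearMap.id_apply] at this
  · rintro ⟨y, hy, rfl⟩
    rw [pushInl, LinearMap.rTensor_comp_apply, hex]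
    refine ⟨y, ?_⟩
    have h1 : g.prod (-f) = LinearMap.inl R P N ∘ₗ g - LinearMap.inr R P N ∘ₗ f := by
      ext a <;> simp
    rw [h1, LinearMap.rTensor_sub, LinearMap.sub_apply, LinearMap.rTensor_comp_apply,
      LinearMap.rTensor_comp_apply, hy, map_zero, sub_zero]

lemma ui_pushInl_iff : CAlgX.UniversallyInjective R (pushInl f g) ↔
    ∀ (X : Type u) [AddCommGroup X] [Module R X] (y : M ⊗[R] X),
      f.rTensor X y = 0 → g.rTensor X y = 0 := by
  rw [ui_iff]
  constructor
  · intro h X _ _ y hy
    exact h X _ ((ker_rTensor_pushInl f g X _).2 ⟨y, hy, rfl⟩)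
  · intro h X _ _ v hv
    obtain ⟨y, hy, rfl⟩ := (ker_rTensor_pushInl f g X v).1 hv
    exact h X y hy

/-- A dominated map factors through the dominating one. -/
lemma exists_factor_of_dominates [Module.FinitePresentation R (N ⧸ LinearMap.range f)]
    (h : ∀ (X : Type u) [AddCommGroup X] [Module R X] (y : M ⊗[R] X),
      f.rTensor X y = 0 → g.rTensor X y = 0) : ∃ r : N →ₗ[R] P, g = r ∘ₗ f := by
  let K := LinearMap.range (g.prod (-f))
  let π : ((P × N) ⧸ K) →ₗ[R] N ⧸ LinearMap.range f :=
    K.liftQ ((LinearMap.range f).mkQ ∘ₗ LinearMap.snd R P N) <| by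
      rintro _ ⟨x, rfl⟩
      simp
  have hπ : Function.Surjective π := by
    intro z
    obtain ⟨w, rfl⟩ := Submodule.Quotient.mk_surjective _ z
    exact ⟨Submodule.Quotient.mk (0, w), rfl⟩
  have hex : Function.Exact (pushInl f g) π := by
    intro z
    obtain ⟨⟨p, w⟩, rfl⟩ := Submodule.Quotient.mk_surjective _ z
    constructor
    · intro hz
      obtain ⟨x, rfl⟩ : w ∈ LinearMap.range f := by
        simpa [π, Submodule.Quotient.mk_eq_zero] using hz
      refine ⟨p + g x, (Submodule.Quotient.eq _).2 ⟨x, ?_⟩⟩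
      simp
    · rintro ⟨a, ha⟩
      rw [← ha]
      simp [π]
  obtain ⟨s, hs⟩ := exists_section_of_ui hex hπ ((ui_pushInl_iff f g).2 h)
  -- the retraction onto the image of `pushInl`
  have hinj : Function.Injective (pushInl f g) := ui_injective ((ui_pushInl_iff f g).2 h)
  let E : P ≃ₗ[R] LinearMap.ker π :=
    (LinearEquiv.ofInjective _ hinj).trans (LinearEquiv.ofEq _ _ hex.linearMap_ker_eq.symm)
  have hmem : ∀ z, z - s (π z) ∈ LinearMap.ker π := fun z => by
    rw [LinearMap.mem_ker, map_sub, ← LinearMap.comp_apply π s, hs, LinearMap.id_apply, sub_self]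
  let proj : ((P × N) ⧸ K) →ₗ[R] LinearMap.ker π :=
    (LinearMap.id - s ∘ₗ π).codRestrict (LinearMap.ker π) hmem
  refine ⟨E.symm.toLinearMap ∘ₗ proj ∘ₗ K.mkQ ∘ₗ LinearMap.inr R P N, LinearMap.ext fun x => ?_⟩
  simp only [LinearMap.comp_apply, LinearEquiv.coe_coe]
  rw [← LinearEquiv.symm_apply_eq, LinearEquiv.symm_symm]
  apply Subtype.ext
  have hk : K.mkQ ((0 : P), f x) = pushInl f g (g x) := by
    refine (Submodule.Quotient.eq _).2 ⟨-x, ?_⟩
    simp
  simp only [LinearMap.inr_apply, hk]
  show pushInl f g (g x) = pushInl f g (g x) - s (π (pushInl f g (g x)))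
  rw [hex.apply_apply_eq_zero, map_zero, sub_zero]

end Groth.MLMod
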